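import Cfsg.Agent.H94.H2.Forms
import Cfsg.Agent.H94.M24.Class

/-!
A checkable certificate that an extension of a stabiliser in the group of the code by a module
of dimension eleven splits as soon as one linear form in the tails vanishes.
-/

set_option autoImplicit false

namespace Cfsg.Agent.H94.H2

open Cfsg Cfsg.Agent.Golay Cfsg.Agent.H94.M24
open Cfsg.Agent.H94.Mult (bitsOf)

/-- The certificate. -/
structure Cert where
  /-- Number of generators of the Sylow subgroup. -/
  n : ℕ
  /-- Number of unknowns. -/
  W : ℕ
  /-- Masks of the basis of the module. -/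
  bas : List ℕ
  /-- Is the module the code (rather than the cocode)? -/
  isCode : Bool
  /-- Words of the square rules. -/
  sqW : List ℕ
  /-- Words of the commutator rules, indexed by `j` then `i`. -/
  cmW : List (List ℕ)
  /-- Tables of the generators. -/
  gens : List ℕ
  /-- Tables of their inverses, with their matrices. -/
  invs : List (ℕ × List (ℕ × ℕ))
  /-- Associativity equations. -/
  tri : List (ℕ × ℕ × ℕ)
  /-- Conjugating elements, with their matrices. -/
  conjs : List (ℕ × List (ℕ × ℕ))
  /-- Conjugate pairs: conjugating element, source and target. -/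
  pairs : List (ℕ × ℕ × ℕ)
  /-- Relations: conjugating element and two words in the pairs. -/
  rels : List (ℕ × List ℕ × List ℕ)
  /-- The scalar equations used: equation and coordinate. -/
  rows : List (ℕ × ℕ)
  /-- Corrections of the lifts. -/
  L : List ℕ
  /-- The form left over, one in the tails only. -/
  s : ℕ
  /-- For each rule and coordinate: whether `s` occurs, and the rows adding up to the rest. -/
  proofs : List (List (Bool × ℕ))

namespace Cert

variable (C : Cert)

/-- Number of rules. -/
def nRules : ℕ := C.n + C.n * (C.n - 1) / 2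

/-- Index of a commutator rule. -/
def cmIdx (j i : ℕ) : ℕ := C.n + j * (j - 1) / 2 + i

/-- The rules. -/
def R : MRules where
  n := C.n
  W := C.W
  sq i := (C.sqW.getD i 0, varForm C.W i)
  cm j i := ((C.cmW.getD j []).getD i 0, varForm C.W (C.cmIdx j i))
  act i := (C.invs.getD i (0, [])).2

/-- The same rules without tails. -/
def R0 : MRules :=
  { C.R with sq := fun i => ((C.R.sq i).1, 0), cm := fun j i => ((C.R.cm j i).1, 0) }

/-- The fixed point. -/
def F : ℕ := 8388608

/-- Table of a generator. -/
def gen (k : ℕ) : ℕ := C.gens.getD k idTblVal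

/-- Table of a normal form. -/
def elT (m : ℕ) : ℕ := (bitsOf C.n m).foldl (fun acc k => tblMul acc (C.gen k)) idTblVal

/-- Two masks name the same element of the module. -/
def eqv (x y : ℕ) : Bool :=
  if C.isCode then x == y else inCode (x ^^^ y) || inCode (x ^^^ y ^^^ 8388608)

/-- A matrix gives the action of a table on the module. -/
def actOK (t : ℕ) (P : List (ℕ × ℕ)) : Bool :=
  (P.all fun p => decide (p.1 < 11) && decide (p.2 < 11)) &&
  (List.range 11).all fun s =>
    C.eqv (tblImg t (C.bas.getD s 0))
      (P.foldl (fun acc p => if p.1 == s then acc ^^^ C.bas.getD p.2 0 else acc) 0)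

/-- Bound on the recursion depth of collection. -/
def fuel : ℕ := 200

/-- Collect a word of generators. -/
def ev (L : ℕ → ℕ) (ks : List ℕ) : Option (ℕ × ℕ) :=
  mulListA C.R (mulGen C.R fuel) L ks (0, 0)

/-- An associativity equation. -/
def triEq : ℕ × ℕ × ℕ → Option ℕ
  | (k, j, i) =>
    match C.ev (fun _ => 0) [k, j, i], C.ev (fun _ => 0) [j, i] with
    | some (r, f), some (p, g) =>
      match C.ev (fun _ => 0) (k :: bitsOf C.n p) with
      | some (r', g') => if r == r' then some (f ^^^ (g ^^^ g')) else none
      | none => none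
    | _, _ => none

/-- Source side of a word of pairs. -/
def evU (gi : ℕ) : List ℕ → ℕ × ℕ → Option (ℕ × ℕ)
  | [], st => some st
  | k :: ks, st =>
    if (C.pairs.getD k (0, 0, 0)).1 == gi && decide (k < C.pairs.length) then
      match mulListA C.R (mulGen C.R fuel) (fun _ => 0)
          (bitsOf C.n (C.pairs.getD k (0, 0, 0)).2.1) st with
      | some st' => evU gi ks st'
      | none => none
    else none

/-- Target side of a word of pairs. -/
def evW : List ℕ → ℕ × ℕ → Option (ℕ × ℕ)
  | [], st => some st
  | k :: ks, st =>
    match mulListA C.R (mulGen C.R fuel) (fun _ => 0)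
        (bitsOf C.n (C.pairs.getD k (0, 0, 0)).2.2) st with
    | some (r, f) => evW ks (r, f ^^^ varForm C.W (C.nRules + k))
    | none => none

/-- An equation from two words of conjugate pairs. -/
def relEq : ℕ × List ℕ × List ℕ → Option ℕ
  | (gi, l₁, l₂) =>
    if decide (gi < C.conjs.length) then
      match C.evU gi l₁ (0, 0), C.evU gi l₂ (0, 0), C.evW l₁ (0, 0), C.evW l₂ (0, 0) with
      | some (a, f), some (a', f'), some (b, h), some (b', h') =>
        if a == a' && b == b' then
          some (actF C.W (C.conjs.getD gi (0, [])).2 (f ^^^ f') ^^^ (h ^^^ h')) else none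
      | _, _, _, _ => none
    else none

/-- All equations. -/
def eqs : List (Option ℕ) := C.tri.map C.triEq ++ C.rels.map C.relEq

/-- The forms of the rows. -/
def rowForms : List ℕ :=
  let es := C.eqs.map fun o => o.getD 0
  C.rows.map fun r => blk C.W (es.getD r.1 0) r.2

/-- Sum of the selected forms. -/
def sumSel : List ℕ → ℕ → ℕ
  | [], _ => 0
  | x :: xs, m => (if m.testBit 0 then x else 0) ^^^ sumSel xs (m >>> 1)

/-- The correction of a lift. -/
def Lf (k : ℕ) : ℕ := C.L.getD k 0

/-- The two sides of each rule. -/
def sides : List (List ℕ × List ℕ) :=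
  ((List.range C.n).map fun i => ([i, i], bitsOf C.n (C.R.sq i).1)) ++
    (List.range C.n).flatMap fun j => (List.range j).map fun i =>
      ([j, i], i :: j :: bitsOf C.n (C.R.cm j i).1)

/-- A corrected rule has its residual in the span of the equations and `s`. -/
def residOK (rf : List ℕ) (sd : List ℕ × List ℕ) (pf : List (Bool × ℕ)) : Bool :=
  match C.ev C.Lf sd.1, C.ev C.Lf sd.2 with
  | some (r, f), some (r', g) =>
    r == r' && (List.range 11).all fun c =>
      blk C.W (f ^^^ g) c ==
        (if (pf.getD c (false, 0)).1 then C.s else 0) ^^^ sumSel rf (pf.getD c (false, 0)).2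
  | _, _ => false

/-- The table identities. -/
def checkTables : Bool :=
  C.gens.length == C.n && C.sides.length == C.nRules && C.invs.length == C.n &&
  decide (11 * (C.nRules + C.pairs.length) ≤ C.W) && decide (C.s < 2 ^ (11 * C.nRules)) &&
  (C.gens.all fun t => inStab [] F t) &&
  ((List.range C.n).all fun i =>
    inStab [] F (C.invs.getD i (0, [])).1 &&
    tblEq (tblMul (C.gen i) (C.invs.getD i (0, [])).1) idTblVal &&
    C.actOK (C.invs.getD i (0, [])).1 (C.invs.getD i (0, [])).2) &&
  (C.conjs.all fun g => inStab [] F g.1 && C.actOK g.1 g.2) &&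
  (C.pairs.all fun p => decide (p.1 < C.conjs.length) &&
    conjB (C.conjs.getD p.1 (0, [])).1 (C.elT p.2.1) (C.elT p.2.2)) &&
  ((List.range C.n).all fun j =>
    decide ((C.R.sq j).1 < 2 ^ C.n) &&
    tblEq (tblMul (C.gen j) (C.gen j)) (C.elT (C.R.sq j).1) &&
    C.sides.getD j ([], []) == ([j, j], bitsOf C.n (C.R.sq j).1) &&
    (List.range j).all fun i => decide ((C.R.cm j i).1 < 2 ^ C.n) &&
      decide (C.cmIdx j i < C.nRules) &&
      C.sides.getD (C.cmIdx j i) ([], []) == ([j, i], i :: j :: bitsOf C.n (C.R.cm j i).1) &&
      tblEq (tblMul (C.gen j) (C.gen i))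
        (tblMul (tblMul (C.gen i) (C.gen j)) (C.elT (C.R.cm j i).1)))

/-- The normal forms are a group of order `2 ^ n`. -/
def checkGroup : Bool :=
  ((List.range (2 ^ C.n)).all fun m => (List.range C.n).all fun i =>
    match mulGen C.R0 fuel m i with
    | some (r, f) => decide (r < 2 ^ C.n) && f == 0
    | none => false) &&
  decide ((List.range (2 ^ C.n)).map C.elT).Nodup &&
  ((List.range (2 ^ C.n)).all fun m => canonT (C.elT m))

/-- The corrected lifts obey the rules whenever `s` vanishes. -/
def checkForms : Bool :=
  (C.eqs.all Option.isSome) &&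
  (C.rows.all fun r => decide (r.1 < C.eqs.length) && decide (r.2 < 11)) &&
  let rf := C.rowForms
  (List.range C.sides.length).all fun k =>
    C.residOK rf (C.sides.getD k ([], [])) (C.proofs.getD k [])

end Cert

end Cfsg.Agent.H94.H2
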