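import Cfsg.Agent.H94.H2.CodeData

/-!
The checks of the certificate Code.
-/

set_option autoImplicit false

namespace Cfsg.Agent.H94.H2

theorem tablesCode : certCode.checkTables = true := by decide +kernel

theorem groupCode : certCode.checkGroup = true := by decide +kernel

theorem formsCode : certCode.checkForms = true := by decide +kernel

end Cfsg.Agent.H94.H2
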