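import Cfsg.Agent.H94.Mult.Collector

/-!
Collection in an extension of a polycyclically presented 2-group by a module of dimension eleven
over the field with two elements, carrying the unknown tails as vectors of linear forms: a vector
of forms is one number made of eleven blocks of width `W`.
-/

set_option autoImplicit false

namespace Cfsg.Agent.H94.H2

open Cfsg.Agent.H94.Mult (bitsOf topBit topBit_above)

/-- Rules with tails in the module, and the action of each generator. -/
structure MRules where
  /-- Number of generators. -/
  n : ℕ
  /-- Width of a block. -/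
  W : ℕ
  /-- Square rules: word and tail. -/
  sq : ℕ → ℕ × ℕ
  /-- Commutator rules: word and tail. -/
  cm : ℕ → ℕ → ℕ × ℕ
  /-- Matrix of the inverse of each generator, as source and target pairs. -/
  act : ℕ → List (ℕ × ℕ)

/-- A block of a vector of forms. -/
def blk (W f c : ℕ) : ℕ := (f >>> (W * c)) &&& (2 ^ W - 1)

/-- A matrix applied to a vector of forms. -/
def actF (W : ℕ) (P : List (ℕ × ℕ)) (f : ℕ) : ℕ :=
  P.foldl (fun acc p => acc ^^^ (blk W f p.1 <<< (W * p.2))) 0

/-- Multiply a normal form with tail by generators that carry tails themselves. -/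
def mulListA (R : MRules) (mg : ℕ → ℕ → Option (ℕ × ℕ)) (L : ℕ → ℕ) :
    List ℕ → ℕ × ℕ → Option (ℕ × ℕ)
  | [], s => some s
  | k :: ks, s =>
    match mg s.1 k with
    | none => none
    | some (r, g) => mulListA R mg L ks (r, g ^^^ actF R.W (R.act k) s.2 ^^^ L k)

/-- Multiply a normal form by a generator. -/
def mulGen (R : MRules) : ℕ → ℕ → ℕ → Option (ℕ × ℕ)
  | 0, _, _ => none
  | fuel + 1, m, i =>
    if R.n ≤ i then none
    else if m >>> (i + 1) == 0 then
      if m.testBit i then
        match mulListA R (mulGen R fuel) (fun _ => 0) (bitsOf R.n (R.sq i).1) (m ^^^ 2 ^ i, 0) with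
        | none => none
        | some (r, f) => some (r, f ^^^ (R.sq i).2)
      else some (m ||| 2 ^ i, 0)
    else
      if i < topBit R.n m && m.testBit (topBit R.n m) then
        match mulGen R fuel (m ^^^ 2 ^ topBit R.n m) i with
        | none => none
        | some (r, f) =>
          match mulListA R (mulGen R fuel) (fun _ => 0)
              (topBit R.n m :: bitsOf R.n (R.cm (topBit R.n m) i).1) (r, f) with
          | none => none
          | some (r', f') => some (r', f' ^^^ (R.cm (topBit R.n m) i).2)
      else none

/-- An interpretation of the rules in a group. -/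
structure Model (R : MRules) (E : Type*) [Group E] where
  /-- The generators. -/
  G : ℕ → E
  /-- The element of a vector of forms. -/
  V : ℕ → E
  V_zero : V 0 = 1
  V_xor : ∀ a b, V (a ^^^ b) = V a * V b
  V_act : ∀ i < R.n, ∀ f, V f * G i = G i * V (actF R.W (R.act i) f)
  sq_rule : ∀ i < R.n, G i * G i = ((bitsOf R.n (R.sq i).1).map G).prod * V (R.sq i).2
  cm_rule : ∀ i j, i < j → j < R.n →
    G j * G i = G i * G j * ((bitsOf R.n (R.cm j i).1).map G).prod * V (R.cm j i).2

namespace Model

variable {R : MRules} {E : Type*} [Group E] (M : Model R E)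

/-- The value of a normal form. -/
def nf (m : ℕ) : E := ((bitsOf R.n m).map M.G).prod

lemma nf_zero : M.nf 0 = 1 := by
  simp [nf, bitsOf]

lemma nf_split {m j : ℕ} (hj : j < R.n) (hjm : m.testBit j = true)
    (habove : ∀ k, j < k → k < R.n → m.testBit k = false) :
    M.nf m = M.nf (m ^^^ 2 ^ j) * M.G j := by
  simp [nf, Cfsg.Agent.H94.Mult.Model.bitsOf_split hj hjm habove]

lemma mulListA_spec {mg : ℕ → ℕ → Option (ℕ × ℕ)}
    (hmg : ∀ m i r f, mg m i = some (r, f) → i < R.n ∧ M.nf m * M.G i = M.nf r * M.V f)
    (L : ℕ → ℕ) :
    ∀ (ks : List ℕ) (m f r f' : ℕ), mulListA R mg L ks (m, f) = some (r, f') →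
      M.nf m * M.V f * (ks.map fun k => M.G k * M.V (L k)).prod = M.nf r * M.V f'
  | [], m, f, r, f', h => by
    simp only [mulListA, Option.some.injEq, Prod.mk.injEq] at h
    obtain ⟨rfl, rfl⟩ := h
    simp
  | k :: ks, m, f, r, f', h => by
    simp only [mulListA] at h
    split at h
    · simp at h
    · next r₁ g₁ h₁ =>
      obtain ⟨hk, e⟩ := hmg _ _ _ _ h₁
      rw [← mulListA_spec hmg L ks _ _ _ _ h, List.map_cons, List.prod_cons, M.V_xor, M.V_xor,
        ← mul_assoc (M.nf r₁), ← mul_assoc (M.nf r₁), ← e]
      simp only [mul_assoc]
      rw [← mul_assoc (M.V f) (M.G k), M.V_act k hk f]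
      simp only [mul_assoc]

lemma mulList0_spec {mg : ℕ → ℕ → Option (ℕ × ℕ)}
    (hmg : ∀ m i r f, mg m i = some (r, f) → i < R.n ∧ M.nf m * M.G i = M.nf r * M.V f)
    (ks : List ℕ) (m f r f' : ℕ) (h : mulListA R mg (fun _ => 0) ks (m, f) = some (r, f')) :
    M.nf m * M.V f * (ks.map M.G).prod = M.nf r * M.V f' := by
  simpa [M.V_zero] using M.mulListA_spec hmg (fun _ => 0) ks m f r f' h

theorem mulGen_spec : ∀ (fuel m i r f : ℕ), mulGen R fuel m i = some (r, f) →
    i < R.n ∧ M.nf m * M.G i = M.nf r * M.V f
  | 0, _, _, _, _, h => by simp [mulGen] at h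
  | fuel + 1, m, i, r, f, h => by
    simp only [mulGen] at h
    split at h
    · simp at h
    next hi =>
    have hin : i < R.n := Nat.lt_of_not_le hi
    refine ⟨hin, ?_⟩
    have hmg : ∀ m i r f, mulGen R fuel m i = some (r, f) →
        i < R.n ∧ M.nf m * M.G i = M.nf r * M.V f := fun a b c d e => mulGen_spec fuel a b c d e
    split at h
    · next hsh =>
      have habove : ∀ k, i < k → m.testBit k = false := by
        intro k hk
        have h0 : (m >>> (i + 1)).testBit (k - (i + 1)) = false := by
          rw [eq_of_beq hsh]; simp
        rwa [Nat.testBit_shiftRight, show i + 1 + (k - (i + 1)) = k by omega] at h0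
      split at h
      · next hmi =>
        split at h
        · simp at h
        · next r₁ f₁ h₁ =>
          simp only [Option.some.injEq, Prod.mk.injEq] at h
          obtain ⟨rfl, rfl⟩ := h
          have e := M.mulList0_spec hmg _ _ _ _ _ h₁
          rw [M.V_zero, mul_one] at e
          rw [M.nf_split hin hmi (fun k hk _ => habove k hk), mul_assoc, M.sq_rule i hin,
            ← mul_assoc, e, mul_assoc, ← M.V_xor]
      · next hmi =>
        simp only [Option.some.injEq, Prod.mk.injEq] at h
        obtain ⟨rfl, rfl⟩ := h
        have hb : (m ||| 2 ^ i).testBit i = true := by simp [Nat.testBit_or]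
        have hab : ∀ k, i < k → k < R.n → (m ||| 2 ^ i).testBit k = false := fun k hk _ => by
          rw [Nat.testBit_or, habove k hk, Nat.testBit_two_pow]; simp [hk.ne]
        rw [M.V_zero, mul_one, M.nf_split hin hb hab]
        congr 2
        apply Nat.eq_of_testBit_eq
        intro k
        rw [Nat.testBit_xor, Nat.testBit_or, Nat.testBit_two_pow]
        by_cases hk : i = k
        · subst hk
          simp [Bool.eq_false_iff.2 hmi]
        · simp [hk]
    · split at h
      · next hj =>
        rw [Bool.and_eq_true, decide_eq_true_eq] at hj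
        obtain ⟨hij, hjm⟩ := hj
        have hjn : topBit R.n m < R.n := by
          by_contra hge
          have : ∀ n, 0 < n → topBit n m < n := by
            intro n
            induction n with
            | zero => omega
            | succ n ih =>
              intro _
              rw [topBit]
              split
              · omega
              · rcases Nat.eq_zero_or_pos n with rfl | hn
                · simp [topBit]
                · exact Nat.lt_succ_of_lt (ih hn)
          exact hge (this R.n (by omega))
        split at h
        · simp at h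
        · next r₁ f₁ h₁ =>
          split at h
          · simp at h
          · next r₂ f₂ h₂ =>
            simp only [Option.some.injEq, Prod.mk.injEq] at h
            obtain ⟨rfl, rfl⟩ := h
            obtain ⟨-, e1⟩ := hmg _ _ _ _ h₁
            have e2 := M.mulList0_spec hmg _ _ _ _ _ h₂
            rw [List.map_cons, List.prod_cons] at e2
            set j := topBit R.n m
            set W := ((bitsOf R.n (R.cm j i).1).map M.G).prod
            calc M.nf m * M.G i
                = M.nf (m ^^^ 2 ^ j) * (M.G j * M.G i) := by
                  rw [← mul_assoc, ← M.nf_split hjn hjm fun k hk hk' => topBit_above hk hk']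
              _ = M.nf (m ^^^ 2 ^ j) * (M.G i * M.G j * W * M.V (R.cm j i).2) := by
                  rw [M.cm_rule i j hij hjn]
              _ = M.nf r₁ * M.V f₁ * (M.G j * W) * M.V (R.cm j i).2 := by
                  rw [← e1]; simp only [mul_assoc]
              _ = M.nf r₂ * M.V f₂ * M.V (R.cm j i).2 := by rw [e2]
              _ = _ := by rw [mul_assoc, ← M.V_xor]
      · simp at h

end Model

end Cfsg.Agent.H94.H2
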