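import Cfsg.Agent.H94.H2.Collector

/-!
The meaning of forms and vectors of forms under an assignment of the unknowns.
-/

set_option autoImplicit false

namespace Cfsg.Agent.H94.H2

/-- Vectors in dimension eleven. -/
abbrev V11 : Type := Fin 11 → ZMod 2

/-- A bit as a scalar. -/
def bit2 (b : Bool) : ZMod 2 := if b then 1 else 0

lemma bit2_xor (x y : Bool) : bit2 (x ^^ y) = bit2 x + bit2 y := by
  cases x <;> cases y <;> decide

/-- The value of a linear form. -/
def lin (W : ℕ) (a : ℕ → ZMod 2) (x : ℕ) : ZMod 2 :=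
  ∑ v ∈ Finset.range W, bit2 (x.testBit v) * a v

/-- The value of a vector of forms. -/
def valF (W : ℕ) (a : ℕ → ZMod 2) (f : ℕ) : V11 := fun c => lin W a (blk W f c)

/-- A coordinate, zero out of range. -/
def getC (x : V11) (s : ℕ) : ZMod 2 := if h : s < 11 then x ⟨s, h⟩ else 0

/-- The linear map of a matrix. -/
def linP (P : List (ℕ × ℕ)) (x : V11) : V11 := fun c =>
  (P.map fun p => if p.2 = (c : ℕ) then getC x p.1 else 0).sum

variable {W : ℕ} {a b : ℕ → ZMod 2}

lemma lin_xor (x y : ℕ) : lin W a (x ^^^ y) = lin W a x + lin W a y := by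
  simp [lin, Nat.testBit_xor, bit2_xor, add_mul, Finset.sum_add_distrib]

lemma lin_zero : lin W a 0 = 0 := by simp [lin, bit2]

lemma lin_add (x : ℕ) : lin W (fun v => a v + b v) x = lin W a x + lin W b x := by
  simp [lin, mul_add, Finset.sum_add_distrib]

lemma lin_two_pow {v : ℕ} (hv : v < W) : lin W a (2 ^ v) = a v := by
  rw [lin, Finset.sum_eq_single v]
  · simp [bit2]
  · intro w _ hw
    simp [bit2, Nat.testBit_two_pow, Ne.symm hw]
  · simp [hv]

lemma lin_congr {x : ℕ} {n : ℕ} (hx : x < 2 ^ n) (h : ∀ v < n, a v = b v) :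
    lin W a x = lin W b x := by
  refine Finset.sum_congr rfl fun v _ => ?_
  by_cases hv : v < n
  · rw [h v hv]
  · rw [Nat.testBit_lt_two_pow (lt_of_lt_of_le hx (Nat.pow_le_pow_right (by norm_num) (not_lt.1 hv)))]
    simp [bit2]

lemma blk_xor (f g c : ℕ) : blk W (f ^^^ g) c = blk W f c ^^^ blk W g c := by
  apply Nat.eq_of_testBit_eq
  intro k
  simp only [blk, Nat.testBit_xor, Nat.testBit_and, Nat.testBit_shiftRight]
  cases (2 ^ W - 1).testBit k <;> simp

lemma blk_zero (c : ℕ) : blk W 0 c = 0 := by simp [blk]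

lemma testBit_blk (f c k : ℕ) :
    (blk W f c).testBit k = (f.testBit (W * c + k) && decide (k < W)) := by
  simp [blk, Nat.testBit_shiftRight, Bool.and_comm]

lemma blk_shift (x d c : ℕ) (hx : x < 2 ^ W) :
    blk W (x <<< (W * d)) c = if c = d then x else 0 := by
  apply Nat.eq_of_testBit_eq
  intro k
  rw [testBit_blk, Nat.testBit_shiftLeft]
  split_ifs with hcd
  · subst hcd
    by_cases hk : k < W
    · simp [hk]
    · rw [Nat.testBit_lt_two_pow
        (lt_of_lt_of_le hx (Nat.pow_le_pow_right (by norm_num) (not_lt.1 hk)))]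
      simp [hk]
  · rw [Nat.zero_testBit]
    by_cases hk : k < W
    · rcases Nat.lt_or_gt_of_ne hcd with h | h
      · have : W * c + k < W * d := by
          calc W * c + k < W * c + W := by omega
            _ = W * (c + 1) := by ring
            _ ≤ W * d := Nat.mul_le_mul_left _ h
        simp [Nat.not_le.2 this]
      · have h' : W * (d + 1) ≤ W * c := Nat.mul_le_mul_left _ h
        rw [Nat.mul_succ] at h'
        rw [Nat.testBit_lt_two_pow (lt_of_lt_of_le hx
          (Nat.pow_le_pow_right (by norm_num) (by omega : W ≤ W * c + k - W * d)))]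
        simp
    · simp [hk]

lemma blk_lt (f c : ℕ) : blk W f c < 2 ^ W :=
  lt_of_le_of_lt Nat.and_le_right (Nat.sub_lt (Nat.two_pow_pos W) Nat.one_pos)

lemma valF_xor (f g : ℕ) : valF W a (f ^^^ g) = valF W a f + valF W a g := by
  funext c; simp [valF, blk_xor, lin_xor]

lemma valF_zero : valF W a 0 = 0 := by
  funext c; simp [valF, blk_zero, lin_zero]

lemma valF_shift (x : ℕ) (hx : x < 2 ^ W) (d : ℕ) (c : Fin 11) :
    valF W a (x <<< (W * d)) c = if (c : ℕ) = d then lin W a x else 0 := by
  rw [valF, blk_shift x d c hx]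
  split_ifs <;> simp [lin_zero]

lemma valF_actF (P : List (ℕ × ℕ)) (hP : ∀ p ∈ P, p.1 < 11) (f : ℕ) :
    valF W a (actF W P f) = linP P (valF W a f) := by
  have key : ∀ acc, (∀ p ∈ P, p.1 < 11) → valF W a
      (P.foldl (fun acc p => acc ^^^ (blk W f p.1 <<< (W * p.2))) acc) =
      valF W a acc + linP P (valF W a f) := by
    clear hP
    induction P with
    | nil => intro acc _; funext c; simp [linP]
    | cons p t ih =>
      intro acc hP
      rw [List.foldl_cons, ih _ fun q hq => hP q (List.mem_cons_of_mem _ hq), valF_xor, add_assoc]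
      congr 1
      funext c
      have hp := hP p (by simp)
      rw [Pi.add_apply, valF_shift _ (blk_lt f p.1)]
      simp only [linP, List.map_cons, List.sum_cons]
      congr 1
      by_cases h : p.2 = (c : ℕ)
      · rw [if_pos h.symm, if_pos h, getC, dif_pos hp]; rfl
      · rw [if_neg (fun e => h e.symm), if_neg h]
  simpa [actF, valF_zero] using key 0 hP

lemma linP_add (P : List (ℕ × ℕ)) (x y : V11) : linP P (x + y) = linP P x + linP P y := by
  funext c
  simp only [linP, Pi.add_apply]
  induction P with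
  | nil => simp
  | cons p t ih =>
    simp only [List.map_cons, List.sum_cons, ih]
    have : getC (x + y) p.1 = getC x p.1 + getC y p.1 := by
      simp only [getC]; split_ifs <;> simp
    split_ifs <;> simp [this] <;> abel

/-- The vector of fresh unknowns of a slot. -/
def varForm (W i : ℕ) : ℕ :=
  (List.range 11).foldl (fun acc c => acc ^^^ (2 ^ (11 * i + c) <<< (W * c))) 0

lemma valF_varForm {i : ℕ} (hi : 11 * i + 11 ≤ W) (c : Fin 11) :
    valF W a (varForm W i) c = a (11 * i + c) := by
  have key : ∀ m ≤ 11, valF W a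
      ((List.range m).foldl (fun acc c => acc ^^^ (2 ^ (11 * i + c) <<< (W * c))) 0) c =
      if (c : ℕ) < m then a (11 * i + c) else 0 := by
    intro m hm
    induction m with
    | zero => simp [valF_zero]
    | succ m ih =>
      rw [List.range_succ, List.foldl_append, List.foldl_cons, List.foldl_nil, valF_xor,
        Pi.add_apply, ih (by omega), valF_shift _ (Nat.pow_lt_pow_right (by norm_num) (by omega)),
        lin_two_pow (by omega)]
      rcases Nat.lt_trichotomy (c : ℕ) m with h | h | h
      · rw [if_pos h, if_neg h.ne, if_pos (by omega : (c : ℕ) < m + 1)]; simp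
      · rw [if_neg (by omega : ¬ (c : ℕ) < m), if_pos h, if_pos (by omega : (c : ℕ) < m + 1), h]
        simp
      · rw [if_neg (by omega : ¬ (c : ℕ) < m), if_neg h.ne', if_neg (by omega : ¬ (c : ℕ) < m + 1)]
        simp
  rw [varForm, key 11 le_rfl, if_pos c.2]

end Cfsg.Agent.H94.H2
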