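import Cfsg.Agent.H94.H2.Sound

/-!
The difference of two extensions, and the uniqueness it gives.
-/

set_option autoImplicit false

namespace Cfsg.Agent.H94.H2

open Cfsg Cfsg.Agent.Golay Cfsg.Agent.H94.M24

universe u v

namespace Cert.Ext

variable {C : Cert} {E : Type u} [Group E] {E' : Type v} [Group E']
  (X : C.Ext E) (X' : C.Ext E')

/-- Pairs over the same permutation. -/
def fibre : Subgroup (E × E') :=
  MonoidHom.eqLocus (X.π.comp (MonoidHom.fst E E')) (X'.π.comp (MonoidHom.snd E E'))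

/-- The identified copy of the module. -/
def diag : Subgroup ↥(X.fibre X') where
  carrier := {z | ∃ x, (z : E × E') = (X.e x, X'.e x)}
  one_mem' := ⟨0, by rw [X.e_zero, X'.e_zero]; rfl⟩
  mul_mem' := by
    rintro a b ⟨x, hx⟩ ⟨y, hy⟩
    exact ⟨x + y, by rw [Subgroup.coe_mul, hx, hy, X.e_add, X'.e_add]; rfl⟩
  inv_mem' := by
    rintro a ⟨x, hx⟩
    exact ⟨x, by
      rw [Subgroup.coe_inv, hx, Prod.inv_mk, inv_eq_of_mul_eq_one_right (X.e_self x),
        inv_eq_of_mul_eq_one_right (X'.e_self x)]⟩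

lemma mem_fibre {z : E × E'} : z ∈ X.fibre X' ↔ X.π z.1 = X'.π z.2 := Iff.rfl

/-- The two extensions carry the same action. -/
def SameAct : Prop :=
  ∀ g g', X.π g = X'.π g' → ∀ x y, g * X.e x * g⁻¹ = X.e y → g' * X'.e x * g'⁻¹ = X'.e y

lemma diag_normal (hA : X.SameAct X') : (X.diag X').Normal := by
  refine ⟨fun n hn g => ?_⟩
  obtain ⟨x, hx⟩ := hn
  obtain ⟨y, hy⟩ := (X.ker_iff ((g : E × E').1 * X.e x * (g : E × E').1⁻¹)).1 (by simp [X.π_e])
  refine ⟨y, ?_⟩
  rw [Subgroup.coe_mul, Subgroup.coe_mul, Subgroup.coe_inv, hx]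
  exact Prod.ext hy.symm (hA _ _ g.2 x y hy.symm)

/-- The embedding of the module in the fibre product. -/
def embFibre (x : V11) : ↥(X.fibre X') :=
  ⟨(X.e x, 1), show X.π (X.e x) = X'.π 1 by rw [X.π_e, map_one]⟩

lemma side_lt {k : ℕ} (hk : k < C.sides.length) :
    ((C.sides.getD k ([], [])).1 ++ (C.sides.getD k ([], [])).2).all (fun i => decide (i < C.n))
      = true := by
  rw [List.getD_eq_getElem _ _ hk]
  have hmem := List.getElem_mem (l := C.sides) hk
  generalize C.sides[k] = sd at hmem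
  simp only [Cert.sides, List.mem_append, List.mem_map, List.mem_flatMap, List.mem_range] at hmem
  simp only [List.all_eq_true, decide_eq_true_eq]
  intro i hi
  rcases hmem with ⟨j, hj, rfl⟩ | ⟨j, hj, i', hi', rfl⟩
  · simp only [List.cons_append, List.nil_append, List.mem_cons] at hi
    rcases hi with rfl | rfl | hi
    exacts [hj, hj, Cert.bitsOf_lt hi]
  · simp only [List.cons_append, List.nil_append, List.mem_cons] at hi
    rcases hi with rfl | rfl | rfl | rfl | hi
    exacts [hj, hi'.trans hj, hi'.trans hj, hj, Cert.bitsOf_lt hi]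

lemma π_disc (T : Tables C) {G : ℕ → E} (hG : X.IsLift G) {k : ℕ} (hk : k < C.sides.length) :
    X.π (X.disc G k) = 1 := by
  have hmem : C.sides.getD k ([], []) ∈ C.sides := by
    rw [List.getD_eq_getElem _ _ hk]; exact List.getElem_mem _
  simp only [Cert.sides, List.mem_append, List.mem_map, List.mem_flatMap, List.mem_range] at hmem
  rcases hmem with ⟨j, hj, e⟩ | ⟨j, hj, i, hi, e⟩
  · have e' : C.sides.getD k ([], []) = C.sides.getD j ([], []) := e.symm.trans (T.sq j hj).2.2.symm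
    rw [show X.disc G k = X.disc G j by simp only [disc]; rw [e']]
    exact X.π_disc_sq T hG hj
  · have e' : C.sides.getD k ([], []) = C.sides.getD (C.cmIdx j i) ([], []) :=
      e.symm.trans (T.cm i j hi hj).2.2.1.symm
    rw [show X.disc G k = X.disc G (C.cmIdx j i) by simp only [disc]; rw [e']]
    exact X.π_disc_cm T hG hi hj

/-- The difference of two extensions, as an extension. -/
noncomputable def diff [(X.diag X').Normal] : C.Ext (↥(X.fibre X') ⧸ X.diag X') where
  π := QuotientGroup.lift (X.diag X')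
    ((X.π.comp (MonoidHom.fst E E')).comp (X.fibre X').subtype) fun z hz => by
      obtain ⟨x, hx⟩ := hz
      rw [MonoidHom.mem_ker]
      show X.π (z : E × E').1 = 1
      rw [hx]
      exact X.π_e x
  range_eq := by
    ext σ
    constructor
    · rintro ⟨q, rfl⟩
      obtain ⟨z, rfl⟩ := QuotientGroup.mk_surjective q
      rw [← X.range_eq]
      exact ⟨(z : E × E').1, rfl⟩
    · intro hσ
      obtain ⟨g, hg⟩ := show σ ∈ X.π.range by rw [X.range_eq]; exact hσ
      obtain ⟨g', hg'⟩ := show σ ∈ X'.π.range by rw [X'.range_eq]; exact hσ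
      exact ⟨QuotientGroup.mk ⟨(g, g'), hg.trans hg'.symm⟩, hg⟩
  e x := QuotientGroup.mk (X.embFibre X' x)
  e_add x y := by
    rw [← QuotientGroup.mk_mul]
    refine congrArg _ (Subtype.ext (Prod.ext ?_ (mul_one 1).symm))
    exact X.e_add x y
  e_inj x y h := by
    obtain ⟨z, hz⟩ := QuotientGroup.eq.1 h
    have h1 : (X.e x)⁻¹ * X.e y = X.e z := congrArg Prod.fst hz
    have h2 : (1 : E')⁻¹ * 1 = X'.e z := congrArg Prod.snd hz
    rw [inv_one, one_mul, ← X'.e_zero] at h2
    rw [← X'.e_inj h2, X.e_zero, inv_mul_eq_one] at h1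
    exact X.e_inj h1
  ker_iff q := by
    obtain ⟨z, rfl⟩ := QuotientGroup.mk_surjective q
    constructor
    · intro h
      have h1 : X.π (z : E × E').1 = 1 := h
      have h2 : X'.π (z : E × E').2 = 1 := (show _ = _ from z.2).symm.trans h1
      obtain ⟨a, ha⟩ := (X.ker_iff _).1 h1
      obtain ⟨b, hb⟩ := (X'.ker_iff _).1 h2
      refine ⟨a + b, QuotientGroup.eq.2 ⟨b, Prod.ext ?_ ?_⟩⟩
      · show (X.e (a + b))⁻¹ * (z : E × E').1 = X.e b
        rw [← ha, inv_eq_of_mul_eq_one_right (X.e_self _), ← X.e_add]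
        congr 1
        rw [add_right_comm, CharTwo.add_self_eq_zero, zero_add]
      · show (1 : E')⁻¹ * (z : E × E').2 = X'.e b
        rw [inv_one, one_mul, hb]
    · rintro ⟨x, hx⟩
      rw [← hx]
      exact X.π_e x
  act t P ht hP q hq x := by
    obtain ⟨z, rfl⟩ := QuotientGroup.mk_surjective q
    rw [← QuotientGroup.mk_inv, ← QuotientGroup.mk_mul, ← QuotientGroup.mk_mul]
    refine congrArg _ (Subtype.ext (Prod.ext ?_ ?_))
    · exact X.act t P ht hP _ hq x
    · show (z : E × E').2 * 1 * (z : E × E').2⁻¹ = 1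
      rw [mul_one, mul_inv_cancel]

open Classical in
/-- The paired lifts. -/
noncomputable def pairLift [(X.diag X').Normal] (G : ℕ → E) (G' : ℕ → E') (k : ℕ) :
    ↥(X.fibre X') ⧸ X.diag X' :=
  if h : X.π (G k) = X'.π (G' k) then QuotientGroup.mk ⟨(G k, G' k), h⟩ else 1

variable {G : ℕ → E} {G' : ℕ → E'}

lemma pairLift_isLift [(X.diag X').Normal] (hG : X.IsLift G) (hG' : X'.IsLift G') :
    (X.diff X').IsLift (X.pairLift X' G G') := fun k hk => by
  rw [pairLift, dif_pos ((hG k hk).trans (hG' k hk).symm)]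
  exact hG k hk

lemma tail_pairLift [(X.diag X').Normal] (T : Tables C) (hG : X.IsLift G) (hG' : X'.IsLift G')
    {v : ℕ} (hv : v < 11 * C.nRules) :
    (X.diff X').tail (X.pairLift X' G G') v = X.tail G v + X'.tail G' v := by
  have hk : v / 11 < C.sides.length := by rw [T.sides_len]; omega
  have hall := side_lt hk
  simp only [List.all_eq_true, decide_eq_true_eq, List.mem_append] at hall
  have hprod : ∀ l : List ℕ, (∀ i ∈ l, i < C.n) →
      ∃ z : ↥(X.fibre X'), (z : E × E') = ((l.map G).prod, (l.map G').prod) ∧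
        (l.map (X.pairLift X' G G')).prod = QuotientGroup.mk z := by
    intro l
    induction l with
    | nil => intro _; exact ⟨1, rfl, rfl⟩
    | cons i t ih =>
      intro hl
      obtain ⟨z, hz, hze⟩ := ih fun j hj => hl j (List.mem_cons_of_mem _ hj)
      have hi : X.π (G i) = X'.π (G' i) := (hG i (hl i (by simp))).trans (hG' i (hl i (by simp))).symm
      refine ⟨⟨(G i, G' i), hi⟩ * z, ?_, ?_⟩
      · rw [Subgroup.coe_mul, hz]; rfl
      · rw [List.map_cons, List.prod_cons, hze, pairLift, dif_pos hi, ← QuotientGroup.mk_mul]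
  obtain ⟨z₁, hz₁, e₁⟩ := hprod _ fun i hi => hall i (.inl hi)
  obtain ⟨z₂, hz₂, e₂⟩ := hprod _ fun i hi => hall i (.inr hi)
  have key : (X.diff X').coord ((X.diff X').disc (X.pairLift X' G G') (v / 11)) =
      X.coord (X.disc G (v / 11)) + X'.coord (X'.disc G' (v / 11)) := by
    obtain ⟨a, ha⟩ := (X.ker_iff _).1 (X.π_disc T hG hk)
    obtain ⟨b, hb⟩ := (X'.ker_iff _).1 (X'.π_disc T hG' hk)
    rw [← ha, ← hb, coord_e, coord_e]
    have : (X.diff X').disc (X.pairLift X' G G') (v / 11) = (X.diff X').e (a + b) := by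
      rw [disc, e₁, e₂, ← QuotientGroup.mk_inv, ← QuotientGroup.mk_mul]
      refine (QuotientGroup.eq.2 (show _ ∈ X.diag X' from ⟨b, ?_⟩)).symm
      rw [Subgroup.coe_mul, Subgroup.coe_mul, Subgroup.coe_inv, Subgroup.coe_inv, hz₁, hz₂]
      refine Prod.ext ?_ ?_
      · show (X.e (a + b))⁻¹ * ((_)⁻¹ * _) = X.e b
        rw [show (_ : E)⁻¹ * _ = X.disc G (v / 11) from rfl, ← ha,
          inv_eq_of_mul_eq_one_right (X.e_self _), ← X.e_add]
        congr 1
        rw [add_right_comm, CharTwo.add_self_eq_zero, zero_add]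
      · show (1 : E')⁻¹ * ((_)⁻¹ * _) = X'.e b
        rw [show (_ : E')⁻¹ * _ = X'.disc G' (v / 11) from rfl, inv_one, one_mul, hb]
    rw [this, coord_e]
  exact congrFun key ⟨v % 11, Nat.mod_lt v (by norm_num)⟩

/-- Two extensions that the certificate cannot split are isomorphic. -/
theorem nonempty_mulEquiv [Finite E] [Finite E'] (hA : X.SameAct X')
    (ht : C.checkTables = true) (hg : C.checkGroup = true) (hf : C.checkForms = true) {r : ℕ}
    (hr : Odd r) (hK : Nat.card ↥(stabGrp [] F) = 2 ^ C.n * r)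
    (hns : ∀ H : Subgroup E, H ⊓ X.π.ker = ⊥ → H ⊔ X.π.ker ≠ ⊤)
    (hns' : ∀ H : Subgroup E', H ⊓ X'.π.ker = ⊥ → H ⊔ X'.π.ker ≠ ⊤) :
    Nonempty (E ≃* E') := by
  have T := tables_of_check ht
  haveI := X.diag_normal X' hA
  have hex : ∀ k, ∃ g, k < C.n → X.π g = mkPerm (C.gen k) := fun k => by
    by_cases hk : k < C.n
    · obtain ⟨g, hg⟩ := X.exists_lift (T.gen k hk)
      exact ⟨g, fun _ => hg⟩
    · exact ⟨1, fun h => absurd h hk⟩
  have hex' : ∀ k, ∃ g, k < C.n → X'.π g = mkPerm (C.gen k) := fun k => by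
    by_cases hk : k < C.n
    · obtain ⟨g, hg⟩ := X'.exists_lift (T.gen k hk)
      exact ⟨g, fun _ => hg⟩
    · exact ⟨1, fun h => absurd h hk⟩
  choose G hG using hex
  choose G' hG' using hex'
  have h1 : lin C.W (X.tail G) C.s = 1 := by
    rcases (by decide : ∀ a : ZMod 2, a = 0 ∨ a = 1) (lin C.W (X.tail G) C.s) with h | h
    · obtain ⟨H, a, b⟩ := X.exists_complement ht hg hf hr hK hG h
      exact absurd b (hns H a)
    · exact h
  have h2 : lin C.W (X'.tail G') C.s = 1 := by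
    rcases (by decide : ∀ a : ZMod 2, a = 0 ∨ a = 1) (lin C.W (X'.tail G') C.s) with h | h
    · obtain ⟨H, a, b⟩ := X'.exists_complement ht hg hf hr hK hG' h
      exact absurd b (hns' H a)
    · exact h
  have h3 : lin C.W ((X.diff X').tail (X.pairLift X' G G')) C.s = 0 := by
    rw [lin_congr (b := fun v => X.tail G v + X'.tail G' v) T.s_lt
      (fun v hv => X.tail_pairLift X' T hG hG' hv), lin_add, h1, h2]
    decide
  obtain ⟨H, hinf, hsup⟩ := (X.diff X').exists_complement ht hg hf hr hK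
    (X.pairLift_isLift X' hG hG') h3
  let K : Subgroup ↥(X.fibre X') := H.comap (QuotientGroup.mk' _)
  have hone : ∀ z ∈ K, X.π (z : E × E').1 = 1 → ∃ x, (z : E × E') = (X.e x, X'.e x) := by
    intro z hz hπ
    have hmem : (QuotientGroup.mk z : ↥(X.fibre X') ⧸ X.diag X') ∈ H ⊓ (X.diff X').π.ker :=
      ⟨hz, hπ⟩
    rw [hinf, Subgroup.mem_bot, QuotientGroup.eq_one_iff] at hmem
    exact hmem
  have hdiag : ∀ x, (⟨(X.e x, X'.e x), by rw [mem_fibre, X.π_e, X'.π_e]⟩ : ↥(X.fibre X')) ∈ K :=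
    fun x => by
      show QuotientGroup.mk _ ∈ H
      rw [(QuotientGroup.eq_one_iff (N := X.diag X') _).2 (show _ ∈ X.diag X' from ⟨x, rfl⟩)]
      exact one_mem _
  have hcover : ∀ z : ↥(X.fibre X'), ∃ c ∈ K, ∃ x, z = X.embFibre X' x * c := by
    intro z
    haveI : (X.diff X').π.ker.Normal := inferInstance
    have : (QuotientGroup.mk z : ↥(X.fibre X') ⧸ X.diag X') ∈ (X.diff X').π.ker ⊔ H := by
      rw [sup_comm, hsup]; exact Subgroup.mem_top _
    obtain ⟨k, hk, h, hh, hkh⟩ := Subgroup.mem_sup_of_normal_left.1 this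
    obtain ⟨x, rfl⟩ := ((X.diff X').ker_iff k).1 hk
    refine ⟨(X.embFibre X' x)⁻¹ * z, ?_, x, (mul_inv_cancel_left _ _).symm⟩
    show QuotientGroup.mk _ ∈ H
    rw [QuotientGroup.mk_mul, QuotientGroup.mk_inv, ← hkh]
    show ((X.diff X').e x)⁻¹ * ((X.diff X').e x * h) ∈ H
    rwa [inv_mul_cancel_left]
  let f : ↥K →* E := ((MonoidHom.fst E E').comp (X.fibre X').subtype).comp K.subtype
  let f' : ↥K →* E' := ((MonoidHom.snd E E').comp (X.fibre X').subtype).comp K.subtype
  have hfb : Function.Bijective f := by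
    refine ⟨(injective_iff_map_eq_one f).2 fun z hz => ?_, fun g => ?_⟩
    · have hz' : ((z : ↥(X.fibre X')) : E × E').1 = 1 := hz
      obtain ⟨x, hx⟩ := hone _ z.2 (by rw [hz', map_one])
      rw [hx, ← X.e_zero] at hz'
      have hx0 : x = 0 := X.e_inj hz'
      rw [hx0, X.e_zero, X'.e_zero] at hx
      exact Subtype.ext (Subtype.ext hx)
    · obtain ⟨g', hg'⟩ := show X.π g ∈ X'.π.range by rw [X'.range_eq, ← X.range_eq]; exact ⟨g, rfl⟩
      obtain ⟨c, hc, x, hx⟩ := hcover ⟨(g, g'), hg'.symm⟩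
      refine ⟨⟨_, mul_mem (hdiag x) hc⟩, ?_⟩
      show X.e x * (c : E × E').1 = g
      exact (congrArg (fun z : ↥(X.fibre X') => (z : E × E').1) hx).symm
  have hfb' : Function.Bijective f' := by
    refine ⟨(injective_iff_map_eq_one f').2 fun z hz => ?_, fun g' => ?_⟩
    · have hz' : ((z : ↥(X.fibre X')) : E × E').2 = 1 := hz
      obtain ⟨x, hx⟩ := hone _ z.2
        (((z : ↥(X.fibre X')).2 : X.π _ = X'.π _).trans (by
          show X'.π ((z : ↥(X.fibre X')) : E × E').2 = 1
          rw [hz', map_one]))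
      rw [hx, ← X'.e_zero] at hz'
      have hx0 : x = 0 := X'.e_inj hz'
      rw [hx0, X.e_zero, X'.e_zero] at hx
      exact Subtype.ext (Subtype.ext hx)
    · obtain ⟨g, hg⟩ := show X'.π g' ∈ X.π.range by rw [X.range_eq, ← X'.range_eq]; exact ⟨g', rfl⟩
      obtain ⟨c, hc, x, hx⟩ := hcover ⟨(g, g'), hg⟩
      refine ⟨⟨c, hc⟩, ?_⟩
      have := congrArg (fun z : ↥(X.fibre X') => (z : E × E').2) hx
      exact (this.trans (one_mul _)).symm
  exact ⟨(MulEquiv.ofBijective f hfb).symm.trans (MulEquiv.ofBijective f' hfb')⟩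

end Cert.Ext

end Cfsg.Agent.H94.H2
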