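import Cfsg.Agent.H94.H2.Cert

/-!
The module of a certificate as binary words on the twenty-four points.
-/

set_option autoImplicit false

namespace Cfsg.Agent.H94.H2

open Cfsg Cfsg.Agent.Golay Cfsg.Agent.H94.M24

lemma maskWord_xor (a b : ℕ) : maskWord (a ^^^ b) = maskWord a + maskWord b := by
  funext p
  simp only [maskWord, Pi.add_apply, Nat.testBit_xor]
  cases a.testBit (idx p) <;> cases b.testBit (idx p) <;> decide

lemma maskWord_zero : maskWord 0 = 0 := by
  funext p; simp [maskWord]

lemma maskWord_tblImg {t : ℕ} (ht : validT t = true) (m : ℕ) :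
    maskWord (tblImg t m) = maskWord m ∘ ⇑(mkPerm t)⁻¹ := by
  funext p
  have h : p ∈ ptSet (tblImg t m) ↔ (mkPerm t)⁻¹ p ∈ ptSet m := by
    rw [ptSet_tblImg ht, Finset.smul_finset_def, Finset.mem_image]
    constructor
    · rintro ⟨q, hq, rfl⟩
      simpa using hq
    · intro hq
      exact ⟨_, hq, by simp⟩
  simp only [mem_ptSet] at h
  simp only [maskWord, Function.comp, h]

/-- The word with given coordinates. -/
def wordV (bas : List ℕ) : V11 →+ (GolayPt → ZMod 2) where
  toFun x := ∑ c : Fin 11, x c • maskWord (bas.getD c 0)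
  map_zero' := by simp
  map_add' x y := by simp [add_smul, Finset.sum_add_distrib]

lemma wordV_apply (bas : List ℕ) (x : V11) :
    wordV bas x = ∑ c : Fin 11, x c • maskWord (bas.getD c 0) := rfl

lemma wordV_single (bas : List ℕ) (c : Fin 11) :
    wordV bas (Pi.single c 1) = maskWord (bas.getD c 0) := by
  rw [wordV_apply, Finset.sum_eq_single c]
  · simp
  · intro d _ hd; simp [Pi.single_eq_of_ne hd]
  · simp

lemma linP_zero (P : List (ℕ × ℕ)) : linP P 0 = 0 := by
  have h := linP_add P 0 0
  rw [add_zero] at h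
  exact left_eq_add.1 h

lemma wordV_linP_single (bas : List ℕ) (P : List (ℕ × ℕ))
    (hP : ∀ p ∈ P, p.1 < 11 ∧ p.2 < 11) (s : Fin 11) :
    wordV bas (linP P (Pi.single s 1)) =
      maskWord (P.foldl (fun acc p => if p.1 == (s : ℕ) then acc ^^^ bas.getD p.2 0 else acc) 0) := by
  have key : ∀ acc, maskWord
      (P.foldl (fun acc p => if p.1 == (s : ℕ) then acc ^^^ bas.getD p.2 0 else acc) acc) =
      maskWord acc + wordV bas (linP P (Pi.single s 1)) := by
    induction P with
    | nil =>
      intro acc
      rw [show linP [] (Pi.single s 1) = 0 from funext fun c => by simp [linP]]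
      simp
    | cons p t ih =>
      intro acc
      obtain ⟨h1, h2⟩ := hP p (by simp)
      rw [List.foldl_cons, ih fun q hq => hP q (List.mem_cons_of_mem _ hq)]
      have hlin : linP (p :: t) (Pi.single s 1) =
          (if p.1 = (s : ℕ) then Pi.single (⟨p.2, h2⟩ : Fin 11) 1 else 0) +
            linP t (Pi.single s 1) := by
        funext c
        simp only [linP, List.map_cons, List.sum_cons, Pi.add_apply]
        congr 1
        simp only [getC, dif_pos h1, Pi.single_apply, Fin.ext_iff]
        by_cases hs : p.1 = (s : ℕ)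
        · simp [hs, Pi.single_apply, Fin.ext_iff, eq_comm]
        · simp [hs]
      rw [hlin, map_add, ← add_assoc]
      congr 1
      by_cases hs : p.1 = (s : ℕ)
      · simp [hs, wordV_single, maskWord_xor]
      · simp [hs]
  rw [key 0, maskWord_zero, zero_add]

lemma hom_eq_of_single {A : Type*} [AddCommGroup A] {f g : V11 →+ A}
    (h : ∀ c, f (Pi.single c 1) = g (Pi.single c 1)) (x : V11) : f x = g x := by
  have hx : x = ∑ c, Pi.single c (x c) := (Finset.univ_sum_single x).symm
  rw [hx, map_sum, map_sum]
  refine Finset.sum_congr rfl fun c _ => ?_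
  rcases (by decide : ∀ a : ZMod 2, a = 0 ∨ a = 1) (x c) with e | e <;> rw [e]
  · simp
  · exact h c

/-- A checked matrix gives the action, seen through a map killing the relations of the module. -/
theorem wordV_linP (C : Cert) {t : ℕ} {P : List (ℕ × ℕ)} (ht : validT t = true)
    (h : C.actOK t P = true) {A : Type*} [AddCommGroup A] (q : (GolayPt → ZMod 2) →+ A)
    (hq : ∀ x y : ℕ, C.eqv x y = true → q (maskWord x) = q (maskWord y)) (x : V11) :
    q (wordV C.bas (linP P x)) = q (wordV C.bas x ∘ ⇑(mkPerm t)⁻¹) := by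
  simp only [Cert.actOK, Bool.and_eq_true, List.all_eq_true, decide_eq_true_eq,
    List.mem_range] at h
  let f : V11 →+ A := q.comp ((wordV C.bas).comp
    (AddMonoidHom.mk' (linP P) (linP_add P)))
  let g : V11 →+ A := q.comp (AddMonoidHom.mk' (fun x => wordV C.bas x ∘ ⇑(mkPerm t)⁻¹)
    fun x y => by rw [map_add]; rfl)
  refine hom_eq_of_single (f := f) (g := g) (fun s => ?_) x
  show q (wordV C.bas (linP P (Pi.single s 1))) = q (wordV C.bas (Pi.single s 1) ∘ _)
  rw [wordV_linP_single _ _ h.1, wordV_single, ← maskWord_tblImg ht]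
  exact (hq _ _ (h.2 s s.2)).symm

/-- The coordinates as a mask. -/
def selMask (bas : List ℕ) (d : ℕ) : ℕ :=
  (List.range 11).foldl (fun acc c => if d.testBit c then acc ^^^ bas.getD c 0 else acc) 0

/-- A mask as coordinates. -/
def maskV (d : ℕ) : V11 := fun c => bit2 (d.testBit c)

lemma wordV_maskV (bas : List ℕ) (d : ℕ) : wordV bas (maskV d) = maskWord (selMask bas d) := by
  have key : ∀ m ≤ 11, maskWord ((List.range m).foldl
      (fun acc c => if d.testBit c then acc ^^^ bas.getD c 0 else acc) 0) =
      ∑ c ∈ Finset.range m, bit2 (d.testBit c) • maskWord (bas.getD c 0) := by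
    intro m
    induction m with
    | zero => intro _; simp [maskWord_zero]
    | succ m ih =>
      intro hm
      rw [List.range_succ, List.foldl_append, List.foldl_cons, List.foldl_nil,
        Finset.sum_range_succ, ← ih (Nat.le_of_succ_le hm)]
      cases d.testBit m <;> simp [bit2, maskWord_xor]
  rw [selMask, key 11 le_rfl, wordV_apply, Finset.sum_range]
  rfl

lemma exists_maskV (x : V11) : ∃ d < 2 ^ 11, maskV d = x := by
  let g : Fin (2 ^ 11) → V11 := fun d => maskV d
  have hg : Function.Bijective g := by
    refine (Fintype.bijective_iff_injective_and_card g).2 ⟨fun a b hab => ?_, by simp [V11]⟩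
    refine Fin.ext (Nat.eq_of_testBit_eq fun k => ?_)
    by_cases hk : k < 11
    · have := congrFun hab ⟨k, hk⟩
      simp only [g, maskV, bit2] at this
      revert this
      cases (a : ℕ).testBit k <;> cases (b : ℕ).testBit k <;> decide
    · rw [Nat.testBit_lt_two_pow (lt_of_lt_of_le a.2 (Nat.pow_le_pow_right (by norm_num) (by omega))),
        Nat.testBit_lt_two_pow (lt_of_lt_of_le b.2 (Nat.pow_le_pow_right (by norm_num) (by omega)))]
  obtain ⟨d, hd⟩ := hg.2 x
  exact ⟨d, d.2, hd⟩

end Cfsg.Agent.H94.H2
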