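import Cfsg.Agent.H94.H2.CodeChecks
import Cfsg.Agent.H94.H2.CocodeChecks
import Cfsg.Agent.H94.H2.Pair
import Cfsg.Agent.H94.H2.Word
import Cfsg.Agent.Golay.Mathieu

/-!
Extensions of `M23` by the code module split, and the non-split extension by the cocode module
is unique.
-/

set_option autoImplicit false

namespace Cfsg.Agent.H94.H2

open Cfsg Cfsg.Agent.Golay Cfsg.Agent.H94.M24

universe u v

lemma spor_M23_stab : Cfsg.Spor.M23 = stabGrp [] Cert.F := by
  rw [spor_M23_eq]; rfl

lemma card_stab : Nat.card ↥(stabGrp [] Cert.F) = 2 ^ 7 * 79695 := by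
  rw [← spor_M23_stab, card_spor_M23]; norm_num

lemma maskWord_two_pow {i : ℕ} (hi : i < 24) : maskWord (2 ^ i) = Pi.single (pt i) 1 := by
  funext p
  simp only [maskWord, Nat.testBit_two_pow]
  by_cases h : p = pt i
  · subst h
    simp [idx_pt i hi]
  · rw [Pi.single_eq_of_ne h, if_neg]
    intro e
    exact h (by rw [of_decide_eq_true e, pt_idx])

lemma maskWord_mem_code {m : ℕ} (h : m ∈ codeList) : maskWord m ∈ golayCode := by
  rw [mem_golayCode_iff, wordMask_maskWord (codeList_lt h)]; exact h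

section

variable {E : Type u} [Group E] (N : Subgroup E) [N.Normal] (φ : E ⧸ N ≃* ↥Cfsg.Spor.M23)

/-- The projection onto the group of permutations. -/
def projPerm : E →* Equiv.Perm GolayPt :=
  (Cfsg.Spor.M23.subtype.comp φ.toMonoidHom).comp (QuotientGroup.mk' N)

lemma projPerm_range : (projPerm N φ).range = stabGrp [] Cert.F := by
  rw [← spor_M23_stab]
  ext g
  constructor
  · rintro ⟨x, rfl⟩
    exact (φ (QuotientGroup.mk x)).2
  · intro hg
    obtain ⟨x, hx⟩ := QuotientGroup.mk_surjective (φ.symm ⟨g, hg⟩)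
    refine ⟨x, ?_⟩
    show ((φ (QuotientGroup.mk x) : ↥Cfsg.Spor.M23) : Equiv.Perm GolayPt) = g
    rw [hx, MulEquiv.apply_symm_apply]

lemma projPerm_eq_one (g : E) : projPerm N φ g = 1 ↔ g ∈ N := by
  show ((φ (QuotientGroup.mk g) : ↥Cfsg.Spor.M23) : Equiv.Perm GolayPt) = 1 ↔ _
  rw [OneMemClass.coe_eq_one, MulEquiv.map_eq_one_iff, QuotientGroup.eq_one_iff]

lemma projPerm_ker : (projPerm N φ).ker = N := Subgroup.ext fun g => projPerm_eq_one N φ g

end

/-! ### The code -/

lemma codeBas_checks : certCode.bas = basisList.take 11 ∧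
    ((List.range (2 ^ 11)).all fun d => decide (selMask certCode.bas d < 2 ^ 24) &&
      ((d == 0) || !(selMask certCode.bas d == 0))) = true ∧
    (certCode.bas.all fun b => inCode b && !b.testBit 23 && decide (b < 2 ^ 23)) = true ∧
    certCode.bas.length = 11 := by decide +kernel

lemma code_wordV_injective : Function.Injective (wordV certCode.bas) := by
  obtain ⟨-, h, -, -⟩ := codeBas_checks
  refine (injective_iff_map_eq_zero (wordV certCode.bas)).2 fun x hx => ?_
  obtain ⟨d, hd, rfl⟩ := exists_maskV x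
  have := List.all_eq_true.1 h d (List.mem_range.2 hd)
  simp only [Bool.and_eq_true, decide_eq_true_eq, Bool.or_eq_true, beq_iff_eq,
    Bool.not_eq_true', beq_eq_false_iff_ne] at this
  rw [wordV_maskV] at hx
  rcases this.2 with h0 | h0
  · subst h0; funext c; simp [maskV, bit2]
  · have e := congrArg wordMask hx
    rw [wordMask_maskWord this.1, wordMask_zero] at e
    exact absurd e h0

lemma code_bas_getD {c : ℕ} (hc : c < 11) : certCode.bas.getD c 0 ∈ codeList ∧
    (certCode.bas.getD c 0).testBit 23 = false := by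
  obtain ⟨-, -, h, hl⟩ := codeBas_checks
  have hc' : c < certCode.bas.length := by rw [hl]; exact hc
  have := List.all_eq_true.1 h (certCode.bas.getD c 0)
    (by rw [List.getD_eq_getElem _ _ hc']; exact List.getElem_mem _)
  simp only [Bool.and_eq_true, Bool.not_eq_true'] at this
  exact ⟨inCode_iff.1 this.1.1, this.1.2⟩

lemma code_wordV_mem (x : V11) :
    wordV certCode.bas x ∈ golayCode ∧ wordV certCode.bas x none = 0 := by
  rw [wordV_apply]
  refine ⟨Submodule.sum_mem _ fun c _ =>
    Submodule.smul_mem _ _ (maskWord_mem_code (code_bas_getD c.2).1), ?_⟩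
  rw [Finset.sum_apply]
  refine Finset.sum_eq_zero fun c _ => ?_
  have h := (code_bas_getD c.2).2
  show x c • maskWord (certCode.bas.getD c 0) none = 0
  simp only [maskWord]
  rw [show idx none = 23 from rfl, h]
  simp

lemma code_exists_coord {w : GolayPt → ZMod 2} (hw : w ∈ golayCode) (h0 : w none = 0) :
    ∃ x, wordV certCode.bas x = w := by
  obtain ⟨hb, -, hchk, hl⟩ := codeBas_checks
  have hbit : (wordMask w).testBit 23 = false := by
    by_contra hne
    have : maskWord (wordMask w) none = 1 := by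
      simp [maskWord, show idx none = 23 from rfl, Bool.not_eq_false _ ▸ hne]
    rw [maskWord_wordMask, h0] at this
    exact zero_ne_one this
  have hspan : ∀ y ∈ spanList (basisList.take 11).reverse,
      y < 2 ^ 23 ∧ ∃ x, wordV certCode.bas x = maskWord y := by
    refine spanList_induction _ ⟨by norm_num, 0, by rw [map_zero, maskWord_zero]⟩ ?_ ?_
    · intro b hbm
      rw [List.mem_reverse, ← hb] at hbm
      obtain ⟨c, hc, rfl⟩ := List.getElem_of_mem hbm
      have h := List.all_eq_true.1 hchk _ (List.getElem_mem hc)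
      simp only [Bool.and_eq_true, decide_eq_true_eq] at h
      refine ⟨h.2, Pi.single (⟨c, by omega⟩ : Fin 11) 1, ?_⟩
      rw [wordV_single, List.getD_eq_getElem _ _ hc]
    · rintro a b ⟨ha, x, hx⟩ ⟨hb', y, hy⟩
      exact ⟨Nat.xor_lt_two_pow ha hb', x + y, by rw [map_add, hx, hy, maskWord_xor]⟩
  have hm := mem_golayCode_iff.1 hw
  rw [codeList, show basisList.reverse = 8391797 :: (basisList.take 11).reverse from rfl,
    spanList, List.mem_append] at hm
  rcases hm with hm | hm
  · obtain ⟨-, x, hx⟩ := hspan _ hm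
    exact ⟨x, hx.trans (maskWord_wordMask w)⟩
  · obtain ⟨y, hy, e⟩ := List.mem_map.1 hm
    rw [← e, Nat.testBit_xor, Nat.testBit_lt_two_pow (hspan y hy).1] at hbit
    exact absurd hbit (by decide)

/-- Extensions by the code module split. -/
theorem code_split {E : Type u} [Group E] [Finite E] (N : Subgroup E) [hN : N.Normal]
    (φ : E ⧸ N ≃* ↥Cfsg.Spor.M23)
    (ψ : Additive ↥N →+ (Cfsg.GolayPt → ZMod 2)) (hinj : Function.Injective ψ)
    (hrange : ∀ w : Cfsg.GolayPt → ZMod 2, w ∈ Set.range ψ ↔ (w ∈ Cfsg.golayCode ∧ w none = 0))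
    (hψ : ∀ (g : E) (n : ↥N),
      ψ (Additive.ofMul ⟨g * n * g⁻¹, hN.conj_mem n n.2 g⟩)
        = ψ (Additive.ofMul n) ∘ ⇑(((φ (QuotientGroup.mk g) : ↥Cfsg.Spor.M23) :
            Equiv.Perm Cfsg.GolayPt)⁻¹)) :
    ∃ H : Subgroup E, H ⊓ N = ⊥ ∧ H ⊔ N = ⊤ := by
  have hex : ∀ x, ∃ n : Additive ↥N, ψ n = wordV certCode.bas x := fun x =>
    (hrange _).2 (code_wordV_mem x)
  choose pre hpre using hex
  let X : certCode.Ext E :=
    { π := projPerm N φ
      range_eq := projPerm_range N φ
      e := fun x => ((pre x).toMul : E)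
      e_add := fun x y => by
        rw [show pre (x + y) = pre x + pre y from
          hinj (by rw [map_add, hpre, hpre, hpre, map_add]), toMul_add]
        rfl
      e_inj := fun x y h => code_wordV_injective (by
        rw [← hpre, ← hpre, show pre x = pre y from Additive.toMul.injective (Subtype.ext h)])
      ker_iff := fun g => by
        rw [projPerm_eq_one]
        constructor
        · intro hg
          obtain ⟨h1, h2⟩ := (hrange _).1 ⟨Additive.ofMul ⟨g, hg⟩, rfl⟩
          obtain ⟨x, hx⟩ := code_exists_coord h1 h2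
          exact ⟨x, by rw [show pre x = Additive.ofMul ⟨g, hg⟩ from
            hinj ((hpre x).trans hx)]; rfl⟩
        · rintro ⟨x, rfl⟩
          exact ((pre x).toMul).2
      act := fun t P ht hP g hg x => by
        have key := hψ g (pre x).toMul
        rw [ofMul_toMul, hpre] at key
        have hσ : ((φ (QuotientGroup.mk g) : ↥Cfsg.Spor.M23) : Equiv.Perm GolayPt) = mkPerm t := hg
        rw [hσ] at key
        have hw := wordV_linP certCode (Cert.valid_of_inStab ht) hP (AddMonoidHom.id _)
          (fun a b h => by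
            simp only [Cert.eqv, show certCode.isCode = true from rfl, if_pos, beq_iff_eq] at h
            rw [h]) x
        rw [AddMonoidHom.id_apply, AddMonoidHom.id_apply] at hw
        rw [← hw, ← hpre] at key
        exact congrArg (fun n : Additive ↥N => (n.toMul : E)) (hinj key) }
  have hlift : ∀ k, ∃ g, k < certCode.n → X.π g = mkPerm (certCode.gen k) := fun k => by
    by_cases hk : k < certCode.n
    · obtain ⟨g, hg⟩ := X.exists_lift ((Cert.tables_of_check tablesCode).gen k hk)
      exact ⟨g, fun _ => hg⟩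
    · exact ⟨1, fun h => absurd h hk⟩
  choose G hG using hlift
  obtain ⟨H, h1, h2⟩ := X.exists_complement tablesCode groupCode formsCode (r := 79695)
    ⟨39847, rfl⟩ card_stab hG (by
      rw [show certCode.s = 0 from rfl]; exact lin_zero)
  rw [show X.π.ker = N from projPerm_ker N φ] at h1 h2
  exact ⟨H, h1, h2⟩

/-! ### The cocode -/

/-- The kernel of the map onto the cocode module. -/
def InRel (w : GolayPt → ZMod 2) : Prop :=
  w ∈ golayCode ∨ w + Pi.single none 1 ∈ golayCode

lemma inRel_of_check {m : ℕ} (h : (inCode m || inCode (m ^^^ 8388608)) = true) :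
    InRel (maskWord m) := by
  rw [Bool.or_eq_true, inCode_iff, inCode_iff] at h
  rcases h with h | h
  · exact .inl (maskWord_mem_code h)
  · refine .inr ?_
    have := maskWord_mem_code h
    rwa [maskWord_xor, show (8388608 : ℕ) = 2 ^ 23 by norm_num,
      maskWord_two_pow (by norm_num : 23 < 24), show pt 23 = none from rfl] at this

lemma check_of_inRel {m : ℕ} (hm : m < 2 ^ 24) (h : InRel (maskWord m)) :
    (inCode m || inCode (m ^^^ 8388608)) = true := by
  rw [Bool.or_eq_true, inCode_iff, inCode_iff]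
  rcases h with h | h
  · left
    rwa [mem_golayCode_iff, wordMask_maskWord hm] at h
  · right
    rw [show (none : GolayPt) = pt 23 from rfl, ← maskWord_two_pow (by norm_num : 23 < 24),
      ← maskWord_xor, mem_golayCode_iff,
      wordMask_maskWord (xor_lt_full hm (by norm_num))] at h
    rwa [show (8388608 : ℕ) = 2 ^ 23 by norm_num]

/-- Coordinates of the unit words in the cocode. -/
def unitCoord : List ℕ :=
  [1, 2, 4, 8, 16, 32, 64, 128, 256, 512, 1024, 1141, 1183, 1355, 1763, 435, 870, 1740, 493, 986,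
    1972, 797, 1594, 0]

lemma cocodeBas_checks :
    ((List.range (2 ^ 11)).all fun d => decide (selMask certCocode.bas d < 2 ^ 24) &&
      ((d == 0) || !(inCode (selMask certCocode.bas d) ||
        inCode (selMask certCocode.bas d ^^^ 8388608)))) = true ∧
    ((List.range 24).all fun i => certCocode.eqv (2 ^ i)
      (selMask certCocode.bas (unitCoord.getD i 0))) = true := by decide +kernel

section

variable {E : Type u} [Group E] (N : Subgroup E) [hN : N.Normal] (φ : E ⧸ N ≃* ↥Cfsg.Spor.M23)
  (θ : (Cfsg.GolayPt → ZMod 2) →+ Additive ↥N)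

omit hN in
lemma theta_eqv (hker : ∀ w, θ w = 0 ↔ InRel w) (a b : ℕ) (h : certCocode.eqv a b = true) :
    θ (maskWord a) = θ (maskWord b) := by
  simp only [Cert.eqv, show certCocode.isCode = false from rfl, Bool.false_eq_true, if_false] at h
  have h0 := (hker _).2 (inRel_of_check h)
  rw [maskWord_xor, ← ZModModule.sub_eq_add (maskWord a), map_sub, sub_eq_zero] at h0
  exact h0

omit hN in
lemma theta_injective (hker : ∀ w, θ w = 0 ↔ InRel w) :
    Function.Injective fun x => θ (wordV certCocode.bas x) := by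
  refine (injective_iff_map_eq_zero (θ.comp (wordV certCocode.bas))).2 fun x hx => ?_
  obtain ⟨d, hd, rfl⟩ := exists_maskV x
  have := List.all_eq_true.1 cocodeBas_checks.1 d (List.mem_range.2 hd)
  simp only [Bool.and_eq_true, decide_eq_true_eq, Bool.or_eq_true, beq_iff_eq,
    Bool.not_eq_true'] at this
  rw [AddMonoidHom.comp_apply, wordV_maskV] at hx
  rcases this.2 with h0 | h0
  · subst h0; funext c; simp [maskV, bit2]
  · rw [check_of_inRel this.1 ((hker _).1 hx)] at h0
    exact absurd h0 (by decide)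

omit hN in
lemma theta_surjective (hker : ∀ w, θ w = 0 ↔ InRel w) (w : GolayPt → ZMod 2) :
    ∃ x, θ (wordV certCocode.bas x) = θ w := by
  let q := QuotientAddGroup.mk' θ.ker
  have hq : ∀ u u', q u = q u' ↔ θ u = θ u' := fun u u' => by
    rw [← sub_eq_zero (a := θ u), ← map_sub, ← sub_eq_zero (a := q u), ← map_sub]
    exact QuotientAddGroup.eq_zero_iff _
  have hmem : q w ∈ (q.comp (wordV certCocode.bas)).range := by
    rw [← Finset.univ_sum_single w, map_sum]
    refine sum_mem fun p _ => ?_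
    rcases (by decide : ∀ a : ZMod 2, a = 0 ∨ a = 1) (w p) with e | e <;> rw [e]
    · rw [Pi.single_zero, map_zero]; exact zero_mem _
    · refine ⟨maskV (unitCoord.getD (idx p) 0), ?_⟩
      rw [AddMonoidHom.comp_apply, wordV_maskV, hq, ← theta_eqv N θ hker _ _
        (List.all_eq_true.1 cocodeBas_checks.2 _ (List.mem_range.2 (idx_lt p))),
        maskWord_two_pow (idx_lt p), pt_idx]
  obtain ⟨x, hx⟩ := hmem
  exact ⟨x, (hq _ _).1 hx⟩

/-- The extension of the certificate given by an extension by the cocode module. -/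
def cocodeExt (hsurj : Function.Surjective θ) (hker : ∀ w, θ w = 0 ↔ InRel w)
    (hθ : ∀ (g : E) (w : Cfsg.GolayPt → ZMod 2),
      ((θ (w ∘ ⇑(((φ (QuotientGroup.mk g) : ↥Cfsg.Spor.M23) :
          Equiv.Perm Cfsg.GolayPt)⁻¹))).toMul : E) = g * ((θ w).toMul : E) * g⁻¹) :
    certCocode.Ext E where
  π := projPerm N φ
  range_eq := projPerm_range N φ
  e x := ((θ (wordV certCocode.bas x)).toMul : E)
  e_add x y := by rw [map_add, map_add, toMul_add]; rfl
  e_inj x y h := theta_injective N θ hker (Additive.toMul.injective (Subtype.ext h))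
  ker_iff g := by
    rw [projPerm_eq_one]
    constructor
    · intro hg
      obtain ⟨w, hw⟩ := hsurj (Additive.ofMul ⟨g, hg⟩)
      obtain ⟨x, hx⟩ := theta_surjective N θ hker w
      exact ⟨x, by rw [hx, hw]; rfl⟩
    · rintro ⟨x, rfl⟩
      exact ((θ (wordV certCocode.bas x)).toMul).2
  act t P ht hP g hg x := by
    have hq : ∀ u u', QuotientAddGroup.mk' θ.ker u = QuotientAddGroup.mk' θ.ker u' ↔
        θ u = θ u' := fun u u' => by
      rw [← sub_eq_zero (a := θ u), ← map_sub,
        ← sub_eq_zero (a := QuotientAddGroup.mk' θ.ker u), ← map_sub]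
      exact QuotientAddGroup.eq_zero_iff _
    have hw := (hq _ _).1 (wordV_linP certCocode (Cert.valid_of_inStab ht) hP
      (QuotientAddGroup.mk' θ.ker) (fun a b h => (hq _ _).2 (theta_eqv N θ hker a b h)) x)
    rw [hw, ← hθ g]
    have hσ : ((φ (QuotientGroup.mk g) : ↥Cfsg.Spor.M23) : Equiv.Perm GolayPt) = mkPerm t := hg
    rw [hσ]

end

/-- The non-split extension by the cocode module is unique. -/
theorem cocode_unique {E : Type u} [Group E] [Finite E] (N : Subgroup E) [hN : N.Normal]
    (φ : E ⧸ N ≃* ↥Cfsg.Spor.M23) (θ : (Cfsg.GolayPt → ZMod 2) →+ Additive ↥N)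
    (hsurj : Function.Surjective θ) (hker : ∀ w, θ w = 0 ↔ InRel w)
    (hθ : ∀ (g : E) (w : Cfsg.GolayPt → ZMod 2),
      ((θ (w ∘ ⇑(((φ (QuotientGroup.mk g) : ↥Cfsg.Spor.M23) :
          Equiv.Perm Cfsg.GolayPt)⁻¹))).toMul : E) = g * ((θ w).toMul : E) * g⁻¹)
    (hns : ∀ H : Subgroup E, H ⊓ N = ⊥ → H ⊔ N ≠ ⊤)
    {E' : Type v} [Group E'] [Finite E'] (N' : Subgroup E') [hN' : N'.Normal]
    (φ' : E' ⧸ N' ≃* ↥Cfsg.Spor.M23) (θ' : (Cfsg.GolayPt → ZMod 2) →+ Additive ↥N')
    (hsurj' : Function.Surjective θ') (hker' : ∀ w, θ' w = 0 ↔ InRel w)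
    (hθ' : ∀ (g : E') (w : Cfsg.GolayPt → ZMod 2),
      ((θ' (w ∘ ⇑(((φ' (QuotientGroup.mk g) : ↥Cfsg.Spor.M23) :
          Equiv.Perm Cfsg.GolayPt)⁻¹))).toMul : E') = g * ((θ' w).toMul : E') * g⁻¹)
    (hns' : ∀ H : Subgroup E', H ⊓ N' = ⊥ → H ⊔ N' ≠ ⊤) :
    Nonempty (E ≃* E') := by
  let X := cocodeExt N φ θ hsurj hker hθ
  let X' := cocodeExt N' φ' θ' hsurj' hker' hθ'
  refine X.nonempty_mulEquiv X' ?_ tablesCocode groupCocode formsCocode (r := 79695)
    ⟨39847, rfl⟩ card_stab ?_ ?_
  · intro g g' hgg x y hxy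
    have hgg' : ((φ (QuotientGroup.mk g) : ↥Cfsg.Spor.M23) : Equiv.Perm GolayPt)
        = ((φ' (QuotientGroup.mk g') : ↥Cfsg.Spor.M23) : Equiv.Perm GolayPt) := hgg
    show g' * ((θ' _).toMul : E') * g'⁻¹ = _
    change g * ((θ _).toMul : E) * g⁻¹ = ((θ _).toMul : E) at hxy
    rw [← hθ g] at hxy
    rw [← hθ' g', ← hgg']
    have h0 := Additive.toMul.injective (Subtype.ext hxy)
    rw [← sub_eq_zero, ← map_sub, hker, ← hker', map_sub, sub_eq_zero] at h0
    exact congrArg (fun n : Additive ↥N' => (n.toMul : E')) h0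
  · intro H h1 h2
    rw [show X.π.ker = N from projPerm_ker N φ] at h1 h2
    exact hns H h1 h2
  · intro H h1 h2
    rw [show X'.π.ker = N' from projPerm_ker N' φ'] at h1 h2
    exact hns' H h1 h2

end Cfsg.Agent.H94.H2
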