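import Cfsg.Agent.H94.H2.Cert
import Cfsg.Agent.H24.Gaschuetz

/-!
Soundness of the certificate: an extension splits when the remaining form of its tails vanishes.
-/

set_option autoImplicit false

namespace Cfsg.Agent.H94.H2

open Cfsg Cfsg.Agent.Golay Cfsg.Agent.H94.M24
open Cfsg.Agent.H94.Mult (bitsOf)

attribute [local irreducible] tblMul validT idTblVal inStab commB conjB tblEq

universe u

namespace Cert

variable (C : Cert)

/-- An extension of the stabiliser by the module of the certificate. -/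
structure Ext (E : Type u) [Group E] where
  /-- The projection. -/
  π : E →* Equiv.Perm GolayPt
  range_eq : π.range = stabGrp [] F
  /-- The embedding of the module. -/
  e : V11 → E
  e_add : ∀ x y, e (x + y) = e x * e y
  e_inj : Function.Injective e
  ker_iff : ∀ g, π g = 1 ↔ ∃ x, e x = g
  act : ∀ t P, inStab [] F t = true → C.actOK t P = true → ∀ g, π g = mkPerm t →
    ∀ x, g * e x * g⁻¹ = e (linP P x)

variable {C}

lemma valid_of_inStab {t : ℕ} (h : inStab [] F t = true) : validT t = true := by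
  unfold inStab at h
  simp only [Bool.and_eq_true] at h
  exact validT_of_inM24 h.1.1

lemma bitsOf_lt {w k : ℕ} (h : k ∈ bitsOf C.n w) : k < C.n := by
  simp only [bitsOf, List.mem_filter, List.mem_range] at h
  exact h.1

/-- What the table check says, rule by rule. -/
structure Tables (C : Cert) : Prop where
  width : 11 * (C.nRules + C.pairs.length) ≤ C.W
  s_lt : C.s < 2 ^ (11 * C.nRules)
  sides_len : C.sides.length = C.nRules
  gen : ∀ k < C.n, inStab [] F (C.gen k) = true
  inv : ∀ i < C.n, inStab [] F (C.invs.getD i (0, [])).1 = true ∧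
    tblEq (tblMul (C.gen i) (C.invs.getD i (0, [])).1) idTblVal = true ∧
    C.actOK (C.invs.getD i (0, [])).1 (C.invs.getD i (0, [])).2 = true
  conj : ∀ k < C.conjs.length, inStab [] F (C.conjs.getD k (0, [])).1 = true ∧
    C.actOK (C.conjs.getD k (0, [])).1 (C.conjs.getD k (0, [])).2 = true
  pair : ∀ k < C.pairs.length, (C.pairs.getD k (0, 0, 0)).1 < C.conjs.length ∧
    conjB (C.conjs.getD (C.pairs.getD k (0, 0, 0)).1 (0, [])).1
      (C.elT (C.pairs.getD k (0, 0, 0)).2.1) (C.elT (C.pairs.getD k (0, 0, 0)).2.2) = true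
  sq : ∀ j < C.n, (C.R.sq j).1 < 2 ^ C.n ∧
    tblEq (tblMul (C.gen j) (C.gen j)) (C.elT (C.R.sq j).1) = true ∧
    C.sides.getD j ([], []) = ([j, j], bitsOf C.n (C.R.sq j).1)
  cm : ∀ i j, i < j → j < C.n → (C.R.cm j i).1 < 2 ^ C.n ∧ C.cmIdx j i < C.nRules ∧
    C.sides.getD (C.cmIdx j i) ([], []) = ([j, i], i :: j :: bitsOf C.n (C.R.cm j i).1) ∧
    tblEq (tblMul (C.gen j) (C.gen i))
      (tblMul (tblMul (C.gen i) (C.gen j)) (C.elT (C.R.cm j i).1)) = true

theorem tables_of_check (h : C.checkTables = true) : Tables C := by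
  simp only [checkTables, Bool.and_eq_true, List.all_eq_true, decide_eq_true_eq, beq_iff_eq,
    List.mem_range] at h
  obtain ⟨⟨⟨⟨⟨⟨⟨⟨hgl, hsl⟩, -⟩, hw⟩, hs⟩, hg⟩, hi⟩, hc⟩, hp, hr⟩ :=
    (show ((((((((_ ∧ _) ∧ _) ∧ _) ∧ _) ∧ _) ∧ _) ∧ _) ∧ _ ∧ _) from ⟨h.1.1, h.1.2, h.2⟩)
  refine ⟨hw, hs, hsl, fun k hk => ?_, fun i hi' => ⟨(hi i hi').1.1, (hi i hi').1.2, (hi i hi').2⟩,
    fun k hk => ?_, fun k hk => ?_, fun j hj => ?_, fun i j hij hj => ?_⟩
  · refine hg _ ?_
    rw [Cert.gen, List.getD_eq_getElem _ _ (hgl ▸ hk)]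
    exact List.getElem_mem _
  · refine hc _ ?_
    rw [List.getD_eq_getElem _ _ hk]
    exact List.getElem_mem _
  · refine hp _ ?_
    rw [List.getD_eq_getElem _ _ hk]
    exact List.getElem_mem _
  · exact ⟨(hr j hj).1.1.1, (hr j hj).1.1.2, (hr j hj).1.2⟩
  · obtain ⟨⟨⟨h1, h2⟩, h3⟩, h4⟩ := (hr j hj).2 i hij
    exact ⟨h1, h2, h3, h4⟩

lemma elT_spec (T : Tables C) (m : ℕ) : validT (C.elT m) = true ∧
    mkPerm (C.elT m) = ((bitsOf C.n m).map fun k => mkPerm (C.gen k)).prod := by
  have key : ∀ (l : List ℕ), (∀ k ∈ l, k < C.n) → ∀ acc, validT acc = true →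
      validT (l.foldl (fun acc k => tblMul acc (C.gen k)) acc) = true ∧
      mkPerm (l.foldl (fun acc k => tblMul acc (C.gen k)) acc)
        = mkPerm acc * (l.map fun k => mkPerm (C.gen k)).prod := by
    intro l
    induction l with
    | nil => intro _ acc ha; exact ⟨ha, by simp⟩
    | cons k t ih =>
      intro hl acc ha
      obtain ⟨h1, h2⟩ := tblMul_spec ha (valid_of_inStab (T.gen k (hl k (by simp))))
      obtain ⟨h3, h4⟩ := ih (fun j hj => hl j (List.mem_cons_of_mem _ hj)) _ h1
      rw [List.foldl_cons]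
      exact ⟨h3, h4.trans (by rw [h2, List.map_cons, List.prod_cons, mul_assoc])⟩
  rw [elT]
  obtain ⟨h1, h2⟩ := key (bitsOf C.n m) (fun k hk => bitsOf_lt hk) idTblVal idTblVal_spec.1
  exact ⟨h1, h2.trans (by rw [idTblVal_spec.2, one_mul])⟩

namespace Ext

variable {E : Type u} [Group E] (X : C.Ext E)

lemma e_zero : X.e 0 = 1 := by
  have h := X.e_add 0 0
  rw [add_zero] at h
  exact left_eq_mul.1 h

lemma π_e (x : V11) : X.π (X.e x) = 1 := (X.ker_iff _).2 ⟨x, rfl⟩

lemma e_self (x : V11) : X.e x * X.e x = 1 := by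
  rw [← X.e_add, CharTwo.add_self_eq_zero, X.e_zero]

lemma exists_lift {t : ℕ} (ht : inStab [] F t = true) : ∃ g, X.π g = mkPerm t := by
  have := mem_stabGrp_of_inStab ht
  rwa [← X.range_eq] at this

/-- The coordinates of an element of the module. -/
noncomputable def coord (g : E) : V11 := Function.invFun X.e g

lemma e_coord {g : E} (h : X.π g = 1) : X.e (X.coord g) = g :=
  Function.invFun_eq ((X.ker_iff g).1 h)

lemma coord_e (x : V11) : X.coord (X.e x) = x := Function.leftInverse_invFun X.e_inj x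

/-- The lifts lie over the generators. -/
def IsLift (G : ℕ → E) : Prop := ∀ k < C.n, X.π (G k) = mkPerm (C.gen k)

/-- The value of a normal form. -/
def NF (_X : C.Ext E) (G : ℕ → E) (w : ℕ) : E := ((bitsOf C.n w).map G).prod

/-- The defect of a rule. -/
def disc (_X : C.Ext E) (G : ℕ → E) (k : ℕ) : E :=
  (((C.sides.getD k ([], [])).2.map G).prod)⁻¹ * ((C.sides.getD k ([], [])).1.map G).prod

/-- The tails, as an assignment of the first unknowns. -/
noncomputable def tail (G : ℕ → E) (v : ℕ) : ZMod 2 :=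
  X.coord (X.disc G (v / 11)) ⟨v % 11, Nat.mod_lt v (by norm_num)⟩

variable {G : ℕ → E}

lemma π_NF (T : Tables C) (hG : X.IsLift G) (w : ℕ) : X.π (X.NF G w) = mkPerm (C.elT w) := by
  rw [(elT_spec T w).2, NF, map_list_prod, List.map_map]
  exact congrArg List.prod (List.map_congr_left fun k hk => hG k (bitsOf_lt hk))

lemma π_disc_sq (T : Tables C) (hG : X.IsLift G) {j : ℕ} (hj : j < C.n) :
    X.π (X.disc G j) = 1 := by
  obtain ⟨-, h, hs⟩ := T.sq j hj
  have vj := valid_of_inStab (T.gen j hj)
  rw [tblEq_iff (tblMul_spec vj vj).1 (elT_spec T _).1, (tblMul_spec vj vj).2] at h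
  rw [disc, hs]
  simp only [List.map_cons, List.map_nil, List.prod_cons, List.prod_nil, mul_one, map_mul,
    map_inv, hG j hj]
  rw [show ((bitsOf C.n (C.R.sq j).1).map G).prod = X.NF G _ from rfl, X.π_NF T hG, h,
    inv_mul_cancel]

lemma π_disc_cm (T : Tables C) (hG : X.IsLift G) {i j : ℕ} (hij : i < j) (hj : j < C.n) :
    X.π (X.disc G (C.cmIdx j i)) = 1 := by
  obtain ⟨-, -, hs, h⟩ := T.cm i j hij hj
  have vj := valid_of_inStab (T.gen j hj)
  have vi := valid_of_inStab (T.gen i (hij.trans hj))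
  rw [tblEq_iff (tblMul_spec vj vi).1 (tblMul_spec (tblMul_spec vi vj).1 (elT_spec T _).1).1,
    (tblMul_spec vj vi).2, (tblMul_spec (tblMul_spec vi vj).1 (elT_spec T _).1).2,
    (tblMul_spec vi vj).2] at h
  rw [disc, hs]
  simp only [List.map_cons, List.map_nil, List.prod_cons, List.prod_nil, mul_one, map_mul,
    map_inv, hG j hj, hG i (hij.trans hj)]
  rw [show ((bitsOf C.n (C.R.cm j i).1).map G).prod = X.NF G _ from rfl, X.π_NF T hG, h,
    ← mul_assoc (mkPerm (C.gen i)), inv_mul_cancel]

/-- The certificate splits the extension. -/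
theorem exists_complement [Finite E] (ht : C.checkTables = true) (hg : C.checkGroup = true)
    (hf : C.checkForms = true) {r : ℕ} (hr : Odd r)
    (hK : Nat.card ↥(stabGrp [] F) = 2 ^ C.n * r) (hG : X.IsLift G)
    (hs : lin C.W (X.tail G) C.s = 0) :
    ∃ H : Subgroup E, H ⊓ X.π.ker = ⊥ ∧ H ⊔ X.π.ker = ⊤ := by
  classical
  have T := tables_of_check ht
  -- lifts of the conjugating elements
  have hex : ∀ k, ∃ g, k < C.conjs.length → X.π g = mkPerm (C.conjs.getD k (0, [])).1 := fun k => by
    by_cases hk : k < C.conjs.length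
    · obtain ⟨g, hg⟩ := X.exists_lift (T.conj k hk).1
      exact ⟨g, fun _ => hg⟩
    · exact ⟨1, fun h => absurd h hk⟩
  choose cj hcj using hex
  let gp : ℕ → E := fun k => cj (C.pairs.getD k (0, 0, 0)).1
  let U : ℕ → E := fun k => X.NF G (C.pairs.getD k (0, 0, 0)).2.1
  let Wt : ℕ → E := fun k => X.NF G (C.pairs.getD k (0, 0, 0)).2.2
  let pd : ℕ → E := fun k => (Wt k)⁻¹ * (gp k * U k * (gp k)⁻¹)
  let a : ℕ → ZMod 2 := fun v => if v < 11 * C.nRules then X.tail G v
    else X.coord (pd (v / 11 - C.nRules)) ⟨v % 11, Nat.mod_lt v (by norm_num)⟩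
  have hdiv : ∀ i : ℕ, ∀ c : Fin 11, (11 * i + (c : ℕ)) / 11 = i ∧ (11 * i + (c : ℕ)) % 11 = c :=
    fun i c => by have := c.2; omega
  have haR : ∀ i < C.nRules, valF C.W a (varForm C.W i) = X.coord (X.disc G i) := fun i hi => by
    funext c
    have hw := T.width
    rw [valF_varForm (by omega)]
    show (if _ then _ else _) = _
    rw [if_pos (show 11 * i + (c : ℕ) < 11 * C.nRules by have := c.2; omega), tail]
    obtain ⟨h1, h2⟩ := hdiv i c
    simp only [h1, h2]
  have haP : ∀ k < C.pairs.length,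
      valF C.W a (varForm C.W (C.nRules + k)) = X.coord (pd k) := fun k hk => by
    funext c
    have hw := T.width
    rw [valF_varForm (by omega)]
    show (if _ then _ else _) = _
    rw [if_neg (show ¬ 11 * (C.nRules + k) + (c : ℕ) < 11 * C.nRules by omega)]
    obtain ⟨h1, h2⟩ := hdiv (C.nRules + k) c
    simp only [h1, h2, Nat.add_sub_cancel_left]
  have hpd : ∀ k < C.pairs.length, X.π (pd k) = 1 := fun k hk => by
    obtain ⟨hci, hc⟩ := T.pair k hk
    rw [conjB_iff (valid_of_inStab (T.conj _ hci).1) (elT_spec T _).1 (elT_spec T _).1] at hc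
    simp only [pd, gp, U, Wt, map_mul, map_inv, X.π_NF T hG, hcj _ hci, hc, inv_mul_cancel]
  have hPlt : ∀ t P, C.actOK t P = true → ∀ p ∈ P, p.1 < 11 := fun t P h p hp => by
    simp only [actOK, Bool.and_eq_true, List.all_eq_true, decide_eq_true_eq] at h
    exact (h.1 p hp).1
  have hVact : ∀ i < C.n, ∀ f, X.e (valF C.W a f) * G i =
      G i * X.e (valF C.W a (actF C.W (C.R.act i) f)) := fun i hi f => by
    obtain ⟨h1, h2, h3⟩ := T.inv i hi
    have vt := valid_of_inStab h1
    have vg := valid_of_inStab (T.gen i hi)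
    rw [tblEq_iff (tblMul_spec vg vt).1 idTblVal_spec.1, (tblMul_spec vg vt).2,
      idTblVal_spec.2] at h2
    have := X.act _ _ h1 h3 (G i)⁻¹
      (by rw [map_inv, hG i hi, inv_eq_of_mul_eq_one_right h2]) (valF C.W a f)
    rw [show C.R.act i = (C.invs.getD i (0, [])).2 from rfl, valF_actF _ (hPlt _ _ h3) f, ← this]
    group
  let M : Model C.R E :=
    { G := G
      V := fun f => X.e (valF C.W a f)
      V_zero := by rw [valF_zero, X.e_zero]
      V_xor := fun f g => by rw [valF_xor, X.e_add]
      V_act := hVact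
      sq_rule := fun i hi => by
        show _ = _ * X.e (valF C.W a (varForm C.W i))
        rw [haR i (lt_of_lt_of_le hi (Nat.le_add_right _ _)),
          X.e_coord (X.π_disc_sq T hG hi), disc, (T.sq i hi).2.2]
        simp only [List.map_cons, List.map_nil, List.prod_cons, List.prod_nil, mul_one]
        exact (mul_inv_cancel_left _ _).symm
      cm_rule := fun i j hij hj => by
        show _ = _ * X.e (valF C.W a (varForm C.W (C.cmIdx j i)))
        rw [haR _ (T.cm i j hij hj).2.1, X.e_coord (X.π_disc_cm T hG hij hj), disc,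
          (T.cm i j hij hj).2.2.1]
        simp only [List.map_cons, List.map_nil, List.prod_cons, List.prod_nil, mul_one]
        rw [show G i * G j * ((bitsOf C.R.n (C.R.cm j i).1).map G).prod
          = G i * (G j * ((bitsOf C.n (C.R.cm j i).1).map G).prod) from mul_assoc _ _ _]
        exact (mul_inv_cancel_left _ _).symm }
  have hev : ∀ (L : ℕ → ℕ) ks r f, C.ev L ks = some (r, f) →
      (ks.map fun k => G k * M.V (L k)).prod = M.nf r * M.V f := fun L ks r f h => by
    have := M.mulListA_spec (fun a b c d e => M.mulGen_spec fuel a b c d e) L ks 0 0 r f h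
    rwa [M.nf_zero, M.V_zero, one_mul, one_mul] at this
  have hev0 : ∀ ks r f, C.ev (fun _ => 0) ks = some (r, f) →
      (ks.map G).prod = M.nf r * M.V f := fun ks r f h => by
    rw [← hev _ ks r f h]
    simp only [M.V_zero, mul_one]
  have hVinj : ∀ f g, M.V f = M.V g → valF C.W a (f ^^^ g) = 0 := fun f g h => by
    rw [valF_xor, X.e_inj h, CharTwo.add_self_eq_zero]
  -- the equations hold
  have htri : ∀ x e, C.triEq x = some e → valF C.W a e = 0 := by
    rintro ⟨k, j, i⟩ e h
    simp only [triEq] at h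
    split at h
    · next r₀ f₁ p g₁ h₁ h₂ =>
      split at h
      · next r' g₂ h₃ =>
        split at h
        · next hab =>
          simp only [Option.some.injEq] at h
          rw [beq_iff_eq] at hab
          subst hab
          subst h
          have e1 := hev0 _ _ _ h₁
          have e2 := hev0 _ _ _ h₂
          have e3 := hev0 _ _ _ h₃
          rw [List.map_cons, List.prod_cons] at e3
          change G k * M.nf p = _ at e3
          rw [List.map_cons, List.prod_cons, e2, ← mul_assoc, e3, mul_assoc, ← M.V_xor,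
            mul_left_cancel_iff] at e1
          rw [Nat.xor_comm g₁, ← hVinj _ _ e1.symm]
        · simp at h
      · simp at h
    · simp at h
  have hU : ∀ gi l m f r f', C.evU gi l (m, f) = some (r, f') →
      (∀ k ∈ l, k < C.pairs.length ∧ (C.pairs.getD k (0, 0, 0)).1 = gi) ∧
      M.nf m * M.V f * (l.map U).prod = M.nf r * M.V f' := by
    intro gi l
    induction l with
    | nil =>
      intro m f r f' h
      simp only [evU, Option.some.injEq, Prod.mk.injEq] at h
      obtain ⟨rfl, rfl⟩ := h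
      simp
    | cons k t ih =>
      intro m f r f' h
      simp only [evU] at h
      split at h
      · next hk =>
        rw [Bool.and_eq_true, decide_eq_true_eq, beq_iff_eq] at hk
        split at h
        · next st hst =>
          obtain ⟨r₁, f₁⟩ := st
          obtain ⟨h1, h2⟩ := ih _ _ _ _ h
          refine ⟨fun q hq => ?_, ?_⟩
          · rcases List.mem_cons.1 hq with rfl | hq
            exacts [⟨hk.2, hk.1⟩, h1 q hq]
          · rw [List.map_cons, List.prod_cons, ← mul_assoc, ← h2]
            congr 1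
            exact M.mulList0_spec (fun a b c d e => M.mulGen_spec fuel a b c d e) _ _ _ _ _ hst
        · simp at h
      · simp at h
  have hWe : ∀ l m f r f', (∀ k ∈ l, k < C.pairs.length) → C.evW l (m, f) = some (r, f') →
      M.nf m * M.V f * (l.map fun k => gp k * U k * (gp k)⁻¹).prod = M.nf r * M.V f' := by
    intro l
    induction l with
    | nil =>
      intro m f r f' _ h
      simp only [evW, Option.some.injEq, Prod.mk.injEq] at h
      obtain ⟨rfl, rfl⟩ := h
      simp
    | cons k t ih =>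
      intro m f r f' hl h
      simp only [evW] at h
      split at h
      · next r₁ f₁ hst =>
        have hk := hl k (by simp)
        have e1 := M.mulList0_spec (fun a b c d e => M.mulGen_spec fuel a b c d e) _ _ _ _ _ hst
        have e2 := ih _ _ _ _ (fun q hq => hl q (List.mem_cons_of_mem _ hq)) h
        have e3 : gp k * U k * (gp k)⁻¹ = Wt k * M.V (varForm C.W (C.nRules + k)) := by
          show _ = _ * X.e (valF C.W a _)
          rw [haP k hk, X.e_coord (hpd k hk)]
          exact (mul_inv_cancel_left _ _).symm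
        rw [List.map_cons, List.prod_cons, ← mul_assoc, ← e2]
        congr 1
        rw [e3, M.V_xor, ← mul_assoc, ← mul_assoc]
        exact congrArg (· * _) e1
      · simp at h
  have hrel : ∀ x e, C.relEq x = some e → valF C.W a e = 0 := by
    rintro ⟨gi, l₁, l₂⟩ e h
    simp only [relEq] at h
    split at h
    · next hgi =>
      rw [decide_eq_true_eq] at hgi
      split at h
      · next A f A' f' B g B' g' hu₁ hu₂ hw₁ hw₂ =>
        split at h
        · next hab =>
          rw [Bool.and_eq_true, beq_iff_eq, beq_iff_eq] at hab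
          obtain ⟨rfl, rfl⟩ := hab
          simp only [Option.some.injEq] at h
          subst h
          obtain ⟨hl₁, eu₁⟩ := hU _ _ _ _ _ _ hu₁
          obtain ⟨hl₂, eu₂⟩ := hU _ _ _ _ _ _ hu₂
          have ew₁ := hWe _ _ _ _ _ (fun k hk => (hl₁ k hk).1) hw₁
          have ew₂ := hWe _ _ _ _ _ (fun k hk => (hl₂ k hk).1) hw₂
          rw [M.nf_zero, M.V_zero, one_mul, one_mul] at eu₁ eu₂ ew₁ ew₂
          have hconj : ∀ l : List ℕ, (∀ k ∈ l, k < C.pairs.length ∧ (C.pairs.getD k (0, 0, 0)).1 = gi) →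
              (l.map fun k => gp k * U k * (gp k)⁻¹).prod
                = cj gi * (l.map U).prod * (cj gi)⁻¹ := by
            intro l hl
            rw [← MulAut.conj_apply, map_list_prod, List.map_map]
            refine congrArg List.prod (List.map_congr_left fun k hk => ?_)
            simp only [gp, (hl k hk).2, Function.comp, MulAut.conj_apply]
          rw [hconj _ hl₁, eu₁] at ew₁
          rw [hconj _ hl₂, eu₂] at ew₂
          obtain ⟨hc1, hc2⟩ := T.conj gi hgi
          have hA : ∀ q, cj gi * M.V q * (cj gi)⁻¹ =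
              M.V (actF C.W (C.conjs.getD gi (0, [])).2 q) := fun q => by
            show _ = X.e (valF C.W a _)
            rw [valF_actF _ (hPlt _ _ hc2)]
            exact X.act _ _ hc1 hc2 _ (hcj gi hgi) _
          have hsplit : ∀ q, cj gi * (M.nf A * M.V q) * (cj gi)⁻¹
              = cj gi * M.nf A * (cj gi)⁻¹ * (cj gi * M.V q * (cj gi)⁻¹) := fun q => by group
          rw [hsplit, hA] at ew₁ ew₂
          set Y := cj gi * M.nf A * (cj gi)⁻¹
          set P := (C.conjs.getD gi (0, [])).2
          have e3 : M.V (actF C.W P f ^^^ g) = M.V (actF C.W P f' ^^^ g') := by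
            have hsq : ∀ q, M.V q * M.V q = 1 := fun q => by
              rw [← M.V_xor, Nat.xor_self, M.V_zero]
            have h1 : Y = M.nf B * M.V (actF C.W P f ^^^ g) := by
              rw [Nat.xor_comm, M.V_xor, ← mul_assoc, ← ew₁, mul_assoc, hsq, mul_one]
            have h2 : Y = M.nf B * M.V (actF C.W P f' ^^^ g') := by
              rw [Nat.xor_comm, M.V_xor, ← mul_assoc, ← ew₂, mul_assoc, hsq, mul_one]
            exact mul_left_cancel (h1.symm.trans h2)
          have e4 := hVinj _ _ e3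
          rw [valF_xor, valF_xor, valF_xor, valF_actF _ (hPlt _ _ hc2),
            valF_actF _ (hPlt _ _ hc2)] at e4
          rw [valF_xor, valF_xor, valF_actF _ (hPlt _ _ hc2), valF_xor, linP_add, ← e4]
          abel
        · simp at h
      · simp at h
    · simp at h
  simp only [checkForms, Bool.and_eq_true, List.all_eq_true, decide_eq_true_eq, List.mem_range]
    at hf
  obtain ⟨⟨heq, hrows⟩, hres⟩ := hf
  have heqs : ∀ o ∈ C.eqs, valF C.W a (o.getD 0) = 0 := by
    intro o ho
    obtain ⟨e, rfl⟩ := Option.isSome_iff_exists.1 (heq o ho)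
    simp only [eqs, List.mem_append, List.mem_map] at ho
    rcases ho with ⟨x, -, hx⟩ | ⟨x, -, hx⟩
    exacts [htri x e hx, hrel x e hx]
  have hrf : ∀ x ∈ C.rowForms, lin C.W a x = 0 := by
    intro x hx
    simp only [rowForms, List.mem_map] at hx
    obtain ⟨⟨q, c⟩, hq, rfl⟩ := hx
    obtain ⟨hq1, hc⟩ := hrows _ hq
    have hlen : q < (C.eqs.map fun o => o.getD 0).length := by rw [List.length_map]; exact hq1
    rw [List.getD_eq_getElem _ _ hlen, List.getElem_map]
    exact congrFun (heqs _ (List.getElem_mem _)) ⟨c, hc⟩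
  have hsum : ∀ l : List ℕ, (∀ x ∈ l, lin C.W a x = 0) → ∀ m, lin C.W a (sumSel l m) = 0 := by
    intro l
    induction l with
    | nil => intro _ m; exact lin_zero
    | cons x t ih =>
      intro hl m
      rw [sumSel, lin_xor, ih (fun y hy => hl y (List.mem_cons_of_mem _ hy)), add_zero]
      split
      exacts [hl x (by simp), lin_zero]
  have hsa : lin C.W a C.s = 0 := by
    rw [← hs]
    exact lin_congr T.s_lt fun v hv => if_pos hv
  -- the corrected lifts
  let G' : ℕ → E := fun k => G k * M.V (C.Lf k)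
  have hG' : ∀ k < C.n, X.π (G' k) = mkPerm (C.gen k) := fun k hk => by
    simp only [G', map_mul, hG k hk]
    show _ * X.π (X.e _) = _
    rw [X.π_e, mul_one]
  have hrule : ∀ k < C.nRules,
      ((C.sides.getD k ([], [])).1.map G').prod = ((C.sides.getD k ([], [])).2.map G').prod := by
    intro k hk
    have hr := hres k (by rw [T.sides_len]; exact hk)
    simp only [residOK] at hr
    split at hr
    · next r₁ f r₂ g h₁ h₂ =>
      simp only [Bool.and_eq_true, List.all_eq_true, List.mem_range, beq_iff_eq] at hr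
      obtain ⟨rfl, hc⟩ := hr
      rw [hev _ _ _ _ h₁, hev _ _ _ _ h₂]
      congr 1
      show X.e _ = X.e _
      have h0 : valF C.W a (f ^^^ g) = 0 := by
        funext c
        show lin C.W a (blk C.W (f ^^^ g) c) = 0
        rw [hc c c.2, lin_xor, hsum _ hrf, add_zero]
        split
        exacts [hsa, lin_zero]
      rw [valF_xor] at h0
      rw [CharTwo.add_eq_zero.1 h0]
    · simp at hr
  let M0 : Model C.R0 E :=
    { G := G'
      V := fun f => X.e (valF C.W a f)
      V_zero := by rw [valF_zero, X.e_zero]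
      V_xor := fun f g => by rw [valF_xor, X.e_add]
      V_act := fun i hi f => by
        show _ * (G i * X.e _) = G i * X.e _ * _
        rw [← mul_assoc]
        show X.e (valF C.W a f) * G i * _ = _
        rw [hVact i hi f, mul_assoc, mul_assoc, ← X.e_add, ← X.e_add, add_comm]
        rfl
      sq_rule := fun i hi => by
        have hn : C.n ≤ C.nRules := Nat.le_add_right _ _
        have := hrule i (lt_of_lt_of_le hi hn)
        rw [(T.sq i hi).2.2] at this
        simp only [List.map_cons, List.map_nil, List.prod_cons, List.prod_nil, mul_one] at this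
        show _ = _ * X.e (valF C.W a 0)
        rw [valF_zero, X.e_zero, mul_one]
        exact this
      cm_rule := fun i j hij hj => by
        have := hrule _ (T.cm i j hij hj).2.1
        rw [(T.cm i j hij hj).2.2.1] at this
        simp only [List.map_cons, List.map_nil, List.prod_cons, List.prod_nil, mul_one] at this
        show _ = _ * X.e (valF C.W a 0)
        rw [valF_zero, X.e_zero, mul_one]
        exact this.trans (mul_assoc _ _ _).symm }
  simp only [checkGroup, Bool.and_eq_true, List.all_eq_true, List.mem_range,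
    decide_eq_true_eq] at hg
  obtain ⟨⟨hclosed, hnd⟩, hcan⟩ := hg
  have hπnf : ∀ m, X.π (M0.nf m) = mkPerm (C.elT m) := fun m => X.π_NF T hG' m
  have hstep : ∀ m < 2 ^ C.n, ∀ i < C.n, ∃ r < 2 ^ C.n, M0.nf m * G' i = M0.nf r := by
    intro m hm i hi
    have := hclosed m hm i hi
    split at this
    · next r' f' hmg =>
      simp only [Bool.and_eq_true, decide_eq_true_eq, beq_iff_eq] at this
      obtain ⟨hr1, rfl⟩ := this
      refine ⟨r', hr1, ?_⟩
      have e := (M0.mulGen_spec fuel m i r' 0 hmg).2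
      rwa [M0.V_zero, mul_one] at e
    · simp at this
  have hlist : ∀ l : List ℕ, (∀ k ∈ l, k < C.n) → ∀ m < 2 ^ C.n,
      ∃ r < 2 ^ C.n, M0.nf m * (l.map G').prod = M0.nf r := by
    intro l
    induction l with
    | nil => intro _ m hm; exact ⟨m, hm, by simp⟩
    | cons k t ih =>
      intro hl m hm
      obtain ⟨r₁, hr₁, e₁⟩ := hstep m hm k (hl k (by simp))
      obtain ⟨r₂, hr₂, e₂⟩ := ih (fun q hq => hl q (List.mem_cons_of_mem _ hq)) r₁ hr₁
      exact ⟨r₂, hr₂, by rw [List.map_cons, List.prod_cons, ← mul_assoc, e₁, e₂]⟩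
  have hmul : ∀ m < 2 ^ C.n, ∀ m' < 2 ^ C.n, ∃ r < 2 ^ C.n, M0.nf m * M0.nf m' = M0.nf r :=
    fun m hm m' _ => hlist _ (fun k hk => bitsOf_lt hk) m hm
  let Hs : Submonoid E :=
    { carrier := {x | ∃ m < 2 ^ C.n, M0.nf m = x}
      one_mem' := ⟨0, Nat.two_pow_pos _, M0.nf_zero⟩
      mul_mem' := by
        rintro _ _ ⟨m, hm, rfl⟩ ⟨m', hm', rfl⟩
        obtain ⟨r, hr, e⟩ := hmul m hm m' hm'
        exact ⟨r, hr, e.symm⟩ }
  let A : Subgroup E :=
    { Hs with
      inv_mem' := fun {x} hx => by
        rw [inv_eq_of_mul_eq_one_right (show x * x ^ (orderOf x - 1) = 1 by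
          rw [← pow_succ', Nat.sub_add_cancel (orderOf_pos x), pow_orderOf_eq_one])]
        exact Hs.pow_mem hx _ }
  let S : Subgroup (Equiv.Perm GolayPt) := A.map X.π
  have hcardS : Nat.card S = 2 ^ C.n := by
    have := natCard_eq_length (fun g => g ∈ S) ((List.range (2 ^ C.n)).map C.elT) hnd
      (fun t ht => by
        obtain ⟨m, hm, rfl⟩ := List.mem_map.1 ht
        exact ⟨hcan m (List.mem_range.1 hm), M0.nf m, ⟨m, List.mem_range.1 hm, rfl⟩, hπnf m⟩)
      (fun g hg => by
        obtain ⟨_, ⟨m, hm, rfl⟩, rfl⟩ := hg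
        exact ⟨_, List.mem_map.2 ⟨m, List.mem_range.2 hm, rfl⟩, (hπnf m).symm⟩)
    rwa [List.length_map, List.length_range] at this
  have hinf : A ⊓ X.π.ker = ⊥ := by
    rw [Subgroup.eq_bot_iff_forall]
    rintro _ ⟨⟨m, hm, rfl⟩, hk⟩
    have h0 : mkPerm (C.elT m) = mkPerm (C.elT 0) := by
      rw [← hπnf, ← hπnf, M0.nf_zero, map_one]
      exact hk
    have he := congrArg tblOf h0
    rw [tblOf_mkPerm (hcan m hm), tblOf_mkPerm (hcan 0 (Nat.two_pow_pos _))] at he
    have : m = 0 := List.inj_on_of_nodup_map hnd (List.mem_range.2 hm)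
      (List.mem_range.2 (Nat.two_pow_pos _)) he
    rw [this]
    exact M0.nf_zero
  have hsetup : Cfsg.Agent.H24.Gaschuetz.Setup X.π.ker (S.comap X.π) A := by
    refine ⟨inferInstance, ⟨⟨?_⟩⟩, fun x hx => ?_, Subgroup.le_comap_map _ _, hinf, ?_⟩
    · rintro ⟨x, hx⟩ ⟨y, hy⟩
      obtain ⟨p, rfl⟩ := (X.ker_iff x).1 hx
      obtain ⟨q, rfl⟩ := (X.ker_iff y).1 hy
      exact Subtype.ext (by show X.e p * X.e q = X.e q * X.e p; rw [← X.e_add, ← X.e_add, add_comm])
    · rw [Subgroup.mem_comap, show X.π x = 1 from hx]; exact one_mem _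
    · rw [sup_comm]; exact (Subgroup.comap_map_eq _ _).symm
  have hcard : Nat.card X.π.ker = 2 ^ 11 := by
    rw [← Nat.card_eq_of_bijective (fun x : V11 => (⟨X.e x, X.π_e x⟩ : X.π.ker))
      ⟨fun x y h => X.e_inj (congrArg Subtype.val h), fun ⟨g, hg⟩ => by
        obtain ⟨x, rfl⟩ := (X.ker_iff g).1 hg
        exact ⟨x, rfl⟩⟩]
    simp [V11, Nat.card_eq_fintype_card]
  have hidx : Odd (S.comap X.π).index := by
    rw [Subgroup.index_comap, X.range_eq]
    have hle : S ≤ stabGrp [] F := by
      rw [← X.range_eq]; exact Subgroup.map_le_range _ _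
    have h := Subgroup.card_mul_index (S.subgroupOf (stabGrp [] F))
    rw [Nat.card_congr (Subgroup.subgroupOfEquivOfLe hle).toEquiv, hcardS, hK] at h
    show Odd (S.subgroupOf (stabGrp [] F)).index
    rw [Nat.eq_of_mul_eq_mul_left (Nat.two_pow_pos _) h]
    exact hr
  obtain ⟨H, hH⟩ := Cfsg.Agent.H24.Gaschuetz.exists_complement hsetup
    (by rw [hcard]; exact Nat.Coprime.pow_left _ (Nat.coprime_two_left.2 hidx))
  exact ⟨H, by rw [inf_comm]; exact hH.disjoint.eq_bot, by rw [sup_comm]; exact hH.sup_eq_top⟩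

end Ext

end Cert

end Cfsg.Agent.H94.H2
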